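import Groth.Agent.ResProp.EF.Grp
import Groth.Agent.S3021
import Groth.Prelude.Def_ComodSub

/-!
# Equivariant generators (S16912, 980: 3.1 `V ⊗ C → Ω`, 4.1 `W_w ⊗ C → GG_w`)

For a group `E` with Serre's covers: every finite subset `F` of a subcomodule `S` of an `E`-module `N` lies in the image of a
comodule map `q : L → N` with `L` finite free over `k` and `range q ≤ S`.  Consequently a finite module over any ring `D`
(acting on `N` compatibly with `k`) which is generated over `D` by a subcomodule `S` is generated by the image of such a `q`.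
-/

set_option autoImplicit false

universe u v

open TensorProduct

namespace Groth.Agent.ResProp.EF.K86

open Grp

variable {k : Type u} [CommRing k]

/-- **equivariant generators**, form with a subcomodule -/
theorem exists_lattice (E : Gp k) (hS : SerreCover E) (N : GMod E) (S : Submodule k N.V)
    (hSub : HopfRep.IsSubcomod (k := k) (A := E.O) S) (F : Set N.V) (hF : F.Finite) (hFS : F ⊆ S) :
    ∃ (L : GMod E) (_ : Module.Free k L.V) (_ : Module.Finite k L.V) (q : L.V →ₗ[k] N.V),
      Hoch.IsComodHom E.O q ∧ LinearMap.range q ≤ S ∧ F ⊆ LinearMap.range q := by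
  obtain ⟨W, hW, hMW, hmin, hfg⟩ :=
    Groth.Agent.S3021.result k E.O N.V (Submodule.span k F)
  have hWS : W ≤ S := hmin S hSub (Submodule.span_le.2 hFS)
  have hWfg : W.FG := hfg (Submodule.fg_span hF)
  let M : GMod E := { V := W, co := ComodSub.Comod.restr N.co W hW }
  have : Module.Finite k M.V := Module.Finite.iff_fg.2 hWfg
  obtain ⟨L, h1, h2, q, hq, hqs⟩ := hS M inferInstance
  refine ⟨L, h1, h2, W.subtype ∘ₗ q, ?_, ?_, ?_⟩
  · have e1 := ComodSub.isComodHom_subtype N.co W hW
    unfold Hoch.IsComodHom at *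
    calc N.co.coact ∘ₗ W.subtype ∘ₗ q = (N.co.coact ∘ₗ W.subtype) ∘ₗ q := rfl
      _ = (W.subtype.rTensor E.O ∘ₗ M.co.coact) ∘ₗ q := by rw [e1]
      _ = W.subtype.rTensor E.O ∘ₗ (M.co.coact ∘ₗ q) := rfl
      _ = W.subtype.rTensor E.O ∘ₗ (q.rTensor E.O ∘ₗ L.co.coact) := by rw [hq]
      _ = (W.subtype ∘ₗ q).rTensor E.O ∘ₗ L.co.coact := by rw [LinearMap.rTensor_comp]; rfl
  · rintro _ ⟨x, rfl⟩
    exact hWS (q x).2
  · intro x hx
    obtain ⟨y, hy⟩ := hqs ⟨x, hMW (Submodule.subset_span hx)⟩
    exact ⟨y, by simp [hy]⟩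

/-- **equivariant generators**, `N` a finite module over a ring `D` generated by a subcomodule `S` (for instance the
`Γ`-invariants of a `(D, Γ, H)`-module, or `S = ⊤`) -/
theorem exists_lattice_span (E : Gp k) (hS : SerreCover E) (N : GMod E) (S : Submodule k N.V)
    (hSub : HopfRep.IsSubcomod (k := k) (A := E.O) S) (D : Type v) [Ring D] [Module D N.V]
    [Module.Finite D N.V] (hgen : Submodule.span D (S : Set N.V) = ⊤) :
    ∃ (L : GMod E) (_ : Module.Free k L.V) (_ : Module.Finite k L.V) (q : L.V →ₗ[k] N.V),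
      Hoch.IsComodHom E.O q ∧ LinearMap.range q ≤ S ∧ Submodule.span D (LinearMap.range q : Set N.V) = ⊤ := by
  classical
  obtain ⟨G, hG⟩ := (Module.finite_def.1 (inferInstance : Module.Finite D N.V))
  have key : ∀ x ∈ (⊤ : Submodule D N.V), ∃ F : Finset N.V, (F : Set N.V) ⊆ S ∧ x ∈ Submodule.span D (F : Set N.V) := by
    intro x hx
    rw [← hgen] at hx
    obtain ⟨F, hF, hx'⟩ := Submodule.mem_span_finite_of_mem_span hx
    exact ⟨F, hF, hx'⟩
  choose! Fx hFx using key
  let T : Set N.V := ⋃ x ∈ G, (Fx x : Set N.V)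
  have hT : T.Finite := G.finite_toSet.biUnion fun x _ => (Fx x).finite_toSet
  have hTS : T ⊆ S := Set.iUnion₂_subset fun x _ => (hFx x trivial).1
  obtain ⟨L, h1, h2, q, hq, hr, hTr⟩ := exists_lattice E hS N S hSub T hT hTS
  refine ⟨L, h1, h2, q, hq, hr, ?_⟩
  rw [eq_top_iff, ← hG, Submodule.span_le]
  intro x hx
  have h3 : (Fx x : Set N.V) ⊆ T := Set.subset_biUnion_of_mem (u := fun x => (Fx x : Set N.V)) hx
  exact Submodule.span_mono (h3.trans hTr) (hFx x trivial).2

/-- the case `S = ⊤` -/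
theorem exists_lattice_span_top (E : Gp k) (hS : SerreCover E) (N : GMod E) (D : Type v) [Ring D] [Module D N.V]
    [Module.Finite D N.V] :
    ∃ (L : GMod E) (_ : Module.Free k L.V) (_ : Module.Finite k L.V) (q : L.V →ₗ[k] N.V),
      Hoch.IsComodHom E.O q ∧ Submodule.span D (LinearMap.range q : Set N.V) = ⊤ := by
  obtain ⟨L, h1, h2, q, hq, -, h⟩ := exists_lattice_span E hS N ⊤
    (fun w _ => by
      rw [LinearMap.range_eq_top.2 (LinearMap.rTensor_surjective _ (fun v => ⟨⟨v, trivial⟩, rfl⟩))]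
      trivial) D (by
        rw [eq_top_iff]
        exact fun x _ => Submodule.subset_span trivial)
  exact ⟨L, h1, h2, q, hq, h⟩

end Groth.Agent.ResProp.EF.K86
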