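import Groth.Agent.ResProp.EF.K86.OmegaCo
import Groth.Agent.ResProp.EF.K86.EqGen
import Groth.Agent.ResProp.EF.Arch

/-!
# `V ⊗ D → Ω_(D/R)` in the language of `Arch.CoverDatum` (S16912, 980: 2.3 / 3.1)

* `gr_of_cartHom` : `GR A`, `CartHom j`, `j : A ⟶ D` ⟹ `GR D`;
* `exists_V` : for a cover datum there are a finite free `H`-module `V` and an `H`-equivariant map `V → Ω_(D/R)` with
  `Γ`-invariant values, whose image generates `Ω_(D/R)` over `D`;
* `exists_cover` : the same for any cartesian module over `D` with `H`-action on level `0` and `1`.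
-/

set_option autoImplicit false
set_option linter.style.haveILetI false
set_option linter.dupNamespace false

open TensorProduct CategoryTheory Opposite

namespace Groth.Agent.ResProp.EF.K86

open K784.BC K784.PM EF56 Grp Arch K477

universe u

noncomputable section

/-- a stack affine over the stack of a groupoid ring is given by a groupoid ring -/
theorem gr_of_cartHom {A D : NFᵒᵖ ⥤ CommRingCat.{u}} (h : GR A) {j : A ⟶ D} (hj : CartHom j) : GR D where
  ff a := (hj (pr a)).ff (h.ff a)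
  po {a b} φ := by
    have h1 : IsPO (rg A (pr b)) (j.app (op b)).hom (j.app (op ⟨b.n + 1⟩)).hom (rg D (pr b)) := hj (pr b)
    have h2 : IsPO (rg A (pr a)) (j.app (op a)).hom (j.app (op ⟨a.n + 1⟩)).hom (rg D (pr a)) := hj (pr a)
    have h3 : IsPO (rg A φ) (rg A (pr b)) (rg A (pr a)) (rg A (wmap φ)) := h.po φ
    have s := IsPushout.paste_horiz h3 h2.flip
    have e1 : CommRingCat.ofHom (rg A φ) ≫ CommRingCat.ofHom (j.app (op a)).hom =
        CommRingCat.ofHom (j.app (op b)).hom ≫ CommRingCat.ofHom (rg D φ) := j.naturality φ.op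
    have e2 : CommRingCat.ofHom (rg A (wmap φ)) ≫ CommRingCat.ofHom (j.app (op ⟨a.n + 1⟩)).hom =
        CommRingCat.ofHom (j.app (op ⟨b.n + 1⟩)).hom ≫ CommRingCat.ofHom (rg D (wmap φ)) :=
      j.naturality (wmap φ).op
    rw [e1, e2] at s
    refine IsPushout.of_left s ?_ h1.flip
    change CommRingCat.ofHom ((rg D (pr a)).comp (rg D φ)) = CommRingCat.ofHom ((rg D (wmap φ)).comp (rg D (pr b)))
    rw [← rg_comp, ← rg_comp, wmap_pr]

variable {k : Type u} [CommRing k]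

/-- the equivariant cover of a cartesian module over `D` -/
theorem exists_cover (H : Gp k) (hSC : SerreCover H) {B : NFᵒᵖ ⥤ CommRingCat.{u}} (hB : GR B) {C : Type u} [CommRing C]
    (G : Gal B C) (F : PM.{u} B) (hF : F.Cart) [Module k (F.obj ⟨0⟩)] [Module k (F.obj ⟨1⟩)]
    (co0 : HopfRep.Comod k H.O (F.obj ⟨0⟩)) (co1 : HopfRep.Comod k H.O (F.obj ⟨1⟩))
    (p q : F.obj ⟨0⟩ →ₗ[k] F.obj ⟨1⟩) (hp : ∀ m, p m = F.map (pr ⟨0⟩) m) (hq : ∀ m, q m = F.map (lst ⟨0⟩) m)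
    (hp' : ∀ m, co1.coact (p m) = p.rTensor H.O (co0.coact m)) (hq' : ∀ m, co1.coact (q m) = q.rTensor H.O (co0.coact m))
    (hfin : Module.Finite (B.obj (op ⟨0⟩)) (F.obj ⟨0⟩)) :
    ∃ (V : GMod H) (_ : Module.Free k V.V) (_ : Module.Finite k V.V) (f : V.V →ₗ[k] F.obj ⟨0⟩),
      (∀ v, co0.coact (f v) = f.rTensor H.O (V.co.coact v)) ∧
      (∀ v, F.map (pr ⟨0⟩) (f v) = F.map (lst ⟨0⟩) (f v)) ∧
      Submodule.span (B.obj (op ⟨0⟩)) (LinearMap.range f : Set (F.obj ⟨0⟩)) = ⊤ := by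
  let N : GMod H := { V := F.obj ⟨0⟩, co := co0 }
  let S : Submodule k N.V := LinearMap.eqLocus p q
  have hS : HopfRep.IsSubcomod (k := k) (A := H.O) S :=
    @isSubcomod_eqLocus k _ H.O _ _ _ _ (F.obj ⟨0⟩) (F.obj ⟨1⟩) _ _ co0 _ _ co1 p q (LinearMap.ext hp') (LinearMap.ext hq')
  have hspan : Submodule.span (B.obj (op ⟨0⟩)) (S : Set (F.obj ⟨0⟩)) = ⊤ := by
    rw [← G.span_co hB F hF]
    congr 1
    ext m
    change p m = q m ↔ _
    rw [hp, hq, Set.mem_setOf_eq, cob_zero, sub_eq_zero, eq_comm]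
  obtain ⟨L, h1, h2, f, hf, hr, hs⟩ := exists_lattice_span H hSC N S hS (B.obj (op ⟨0⟩)) hspan
  refine ⟨L, h1, h2, f, fun v => LinearMap.congr_fun hf v, fun v => ?_, hs⟩
  have h3 : f v ∈ S := hr ⟨v, rfl⟩
  have h4 : p (f v) = q (f v) := h3
  rw [hp, hq] at h4
  exact h4

section Arch

variable {A : NFᵒᵖ ⥤ CommRingCat.{u}} [GRF k A] {x : PrimeSpectrum (A.obj (op ⟨0⟩))} (c : CoverDatum k A x)

/-- the universal derivation of `omPM` -/
def omd {A D : NFᵒᵖ ⥤ CommRingCat.{u}} (j : A ⟶ D) (a : NF) : D.obj (op a) →+ (omPM j).obj a := KD.d (j.app (op a)).hom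

theorem isKD_om {A D : NFᵒᵖ ⥤ CommRingCat.{u}} (j : A ⟶ D) (a : NF) : IsKD (j.app (op a)).hom (omd j a) :=
  isKD_d (j.app (op a)).hom

theorem omPM_map_omd {A D : NFᵒᵖ ⥤ CommRingCat.{u}} (j : A ⟶ D) {a b : NF} (φ : a ⟶ b) (y : D.obj (op b)) :
    (omPM j).map φ (omd j b y) = omd j a (rg D φ y) := omPM_map_d j φ y

/-- the `k`-module structure on the differentials of `D⟨a⟩ / A⟨a⟩` -/
@[reducible] def omk (a : NF) : Module k ((omPM c.Y.j).obj a) := Module.compHom _ (algebraMap k (c.Y.D.obj (op a)))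

theorem omk_tower (a : NF) : letI := omk c a; IsScalarTower k (c.Y.D.obj (op a)) ((omPM c.Y.j).obj a) :=
  letI := omk c a
  ⟨fun r s m => by
    change (r • s) • m = algebraMap k (c.Y.D.obj (op a)) r • s • m
    rw [Algebra.smul_def, mul_smul]⟩

theorem omk_hk (a : NF) (r : k) : ∃ b, (c.Y.j.app (op a)).hom b = algebraMap k (c.Y.D.obj (op a)) r :=
  ⟨algebraMap k (A.obj (op a)) r, rfl⟩

/-- the `H`-coaction on the differentials -/
@[reducible] def omC (a : NF) : letI := omk c a; HopfRep.Comod k c.H.O ((omPM c.Y.j).obj a) :=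
  letI := omk c a
  haveI := omk_tower c a
  omComod (isKD_om c.Y.j a) (omk_hk c a) (c.ρ a) (c.ρ_lin a)

/-- the universal derivation is `k`-linear -/
def omdk (a : NF) : letI := omk c a; c.Y.D.obj (op a) →ₗ[k] (omPM c.Y.j).obj a :=
  letI := omk c a
  haveI := omk_tower c a
  { omd c.Y.j a with map_smul' := fun r b => d_smul (isKD_om c.Y.j a) (omk_hk c a) r b }

/-- the coaction of a differential -/
theorem omC_coact_omd (a : NF) (y : c.Y.D.obj (op a)) : letI := omk c a;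
    (omC c a).coact (omd c.Y.j a y) = (omdk c a).rTensor c.H.O ((c.ρ a).ρ y) := by
  letI := omk c a
  haveI := omk_tower c a
  refine (omComod_coact_d (isKD_om c.Y.j a) (omk_hk c a) (c.ρ a) (c.ρ_lin a) y).trans ?_
  generalize (c.ρ a).ρ y = z
  induction z with
  | zero => simp
  | add z z' h h' => rw [map_add, map_add, h, h']
  | tmul b s =>
    rw [Algebra.TensorProduct.one_def, om_tmul, one_smul, one_mul]
    rfl

/-- the coaction is semilinear -/
theorem omC_hopf (a : NF) : letI := omk c a; haveI := omk_tower c a;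
    K83.IsHopfMod (c.ρ a) ((omPM c.Y.j).obj a) (omC c a) :=
  letI := omk c a
  haveI := omk_tower c a
  omHopf (isKD_om c.Y.j a) (omk_hk c a) (c.ρ a) (c.ρ_lin a)

/-- the transition maps are `k`-linear -/
def omMap {a b : NF} (φ : a ⟶ b) : letI := omk c a; letI := omk c b;
    (omPM c.Y.j).obj b →ₗ[k] (omPM c.Y.j).obj a :=
  letI := omk c a
  letI := omk c b
  { (omPM c.Y.j).map φ with
    map_smul' := fun r m => by
      change (omPM c.Y.j).map φ (algebraMap k (c.Y.D.obj (op b)) r • m) = algebraMap k (c.Y.D.obj (op a)) r • _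
      rw [(omPM c.Y.j).map_smul]
      exact congrArg (fun t => t • (omPM c.Y.j).map φ m) ((c.Y.rk (k := k) φ).commutes r) }

/-- the transition maps are `H`-equivariant -/
theorem omMap_equi {a b : NF} (φ : a ⟶ b) (m : (omPM c.Y.j).obj b) : letI := omk c a; letI := omk c b;
    (omC c a).coact (omMap c φ m) = (omMap c φ).rTensor c.H.O ((omC c b).coact m) := by
  letI := omk c a
  letI := omk c b
  haveI := omk_tower c a
  haveI := omk_tower c b
  exact omComod_map (isKD_om c.Y.j b) (omk_hk c b) (c.ρ b) (c.ρ_lin b)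
    (isKD_om c.Y.j a) (omk_hk c a) (c.ρ a) (c.ρ_lin a) (c.Y.rk (k := k) φ) (omMap c φ)
    (fun x y => ((omPM c.Y.j).map_smul φ x _).trans (congrArg (rg c.Y.D φ x • ·) (omPM_map_omd c.Y.j φ y)))
    (fun z => c.ρ_nat φ z) m

/-- `Ω_(D/R)` is a finite `D`-module -/
theorem om_finite : Module.Finite (c.Y.D.obj (op ⟨0⟩)) ((omPM c.Y.j).obj ⟨0⟩) := by
  have hft := c.ft
  letI : Algebra (A.obj (op ⟨0⟩)) (c.Y.D.obj (op ⟨0⟩)) := (c.Y.j.app (op ⟨0⟩)).hom.toAlgebra
  change Module.Finite (c.Y.D.obj (op ⟨0⟩)) (Ω[c.Y.D.obj (op ⟨0⟩)⁄A.obj (op ⟨0⟩)])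
  haveI : Algebra.FiniteType (A.obj (op ⟨0⟩)) (c.Y.D.obj (op ⟨0⟩)) := hft
  infer_instance

/-- **the equivariant cover `V ⊗ D → Ω_(D/R)`** -/
theorem exists_V (hSC : SerreCover c.H) : letI := omk c ⟨0⟩
    ∃ (V : GMod c.H) (_ : Module.Free k V.V) (_ : Module.Finite k V.V) (f : V.V →ₗ[k] (omPM c.Y.j).obj ⟨0⟩),
      (∀ v, (omC c ⟨0⟩).coact (f v) = f.rTensor c.H.O (V.co.coact v)) ∧
      (∀ v, (omPM c.Y.j).map (pr ⟨0⟩) (f v) = (omPM c.Y.j).map (lst ⟨0⟩) (f v)) ∧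
      Submodule.span (c.Y.D.obj (op ⟨0⟩)) (LinearMap.range f : Set ((omPM c.Y.j).obj ⟨0⟩)) = ⊤ := by
  letI := omk c ⟨0⟩
  letI := omk c ⟨1⟩
  exact exists_cover c.H hSC (gr_of_cartHom (GRF.gr k (A := A)) c.Y.cart) c.gal (omPM c.Y.j)
    (omPM_cart c.Y.j fun φ => c.Y.cart φ) (omC c ⟨0⟩) (omC c ⟨1⟩) (omMap c (pr ⟨0⟩)) (omMap c (lst ⟨0⟩))
    (fun _ => rfl) (fun _ => rfl) (omMap_equi c (pr ⟨0⟩)) (omMap_equi c (lst ⟨0⟩)) (om_finite c)

end Arch

end

end Groth.Agent.ResProp.EF.K86
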