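import Groth.Agent.ResProp.EF.K86.VOmega
import Mathlib.LinearAlgebra.TensorProduct.Basis

/-!
# Matrix coefficients of a comodule with a basis, and `exists_V` / `exists_cover` with matrices (S16912, W3b)

* `exists_matrix` : `coact (b l) = ∑ m, b m ⊗ C m l`, `Δ (C i j) = ∑ l, C i l ⊗ C l j`, `ε (C i j) = δ i j`;
* `exists_cover_basis`, `exists_basis` : `exists_cover`, `exists_V` in coordinates.
-/

set_option autoImplicit false
set_option linter.style.haveILetI false
set_option linter.dupNamespace false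

open TensorProduct CategoryTheory Opposite

namespace Groth.Agent.ResProp.EF.K86

open K784.BC K784.PM EF56 Grp Arch K477

universe u

noncomputable section

section Matrix

variable {k : Type u} [CommRing k] {O : Type u} [CommRing O] [HopfAlgebra k O] {V : Type u} [AddCommGroup V] [Module k V]
  {ι : Type*} [Fintype ι] [DecidableEq ι]

omit [DecidableEq ι] in
theorem basis_tmul_inj (b : Module.Basis ι k V) {N : Type*} [AddCommGroup N] [Module k N] {f g : ι → N}
    (h : ∑ i, b i ⊗ₜ[k] f i = ∑ i, b i ⊗ₜ[k] g i) : f = g := by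
  have key : ∀ (f : ι → N) (i : ι), TensorProduct.lid k N ((b.coord i).rTensor N (∑ i, b i ⊗ₜ[k] f i)) = f i := by
    classical
    intro f i
    rw [map_sum, map_sum, Finset.sum_eq_single i]
    · simp
    · intro j _ hj
      simp [Finsupp.single_eq_of_ne hj.symm]
    · intro h
      exact absurd (Finset.mem_univ i) h
  funext i
  rw [← key f i, h, key g i]

omit [DecidableEq ι] in
theorem exists_coord (b : Module.Basis ι k V) {N : Type*} [AddCommGroup N] [Module k N] (z : V ⊗[k] N) :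
    ∃ f : ι → N, z = ∑ i, b i ⊗ₜ[k] f i := by
  induction z with
  | zero => exact ⟨0, by simp⟩
  | add x y hx hy =>
    obtain ⟨f, rfl⟩ := hx
    obtain ⟨g, rfl⟩ := hy
    exact ⟨f + g, by simp only [Pi.add_apply, TensorProduct.tmul_add, Finset.sum_add_distrib]⟩
  | tmul v n =>
    refine ⟨fun i => b.repr v i • n, ?_⟩
    conv_lhs => rw [← b.sum_repr v, TensorProduct.sum_tmul]
    exact Finset.sum_congr rfl fun i _ => by rw [TensorProduct.smul_tmul]

/-- **the matrix coefficients of a comodule with a basis** -/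
theorem exists_matrix (co : HopfRep.Comod k O V) (b : Module.Basis ι k V) :
    ∃ C : Matrix ι ι O, (∀ l, co.coact (b l) = ∑ m, b m ⊗ₜ[k] C m l) ∧
      (∀ i j, Coalgebra.comul (R := k) (C i j) = ∑ l, C i l ⊗ₜ[k] C l j) ∧
      ∀ i j, Coalgebra.counit (R := k) (C i j) = if i = j then 1 else 0 := by
  choose f hf using fun l => exists_coord b (co.coact (b l))
  refine ⟨fun m l => f l m, hf, fun i j => ?_, fun i j => ?_⟩
  · have h := LinearMap.congr_fun co.coassoc (b j)
    simp only [LinearMap.comp_apply, LinearEquiv.coe_coe, hf, map_sum, LinearMap.rTensor_tmul, LinearMap.lTensor_tmul,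
      TensorProduct.sum_tmul, TensorProduct.assoc_tmul] at h
    rw [Finset.sum_comm] at h
    simp only [← TensorProduct.tmul_sum] at h
    exact (congrFun (basis_tmul_inj b h) i).symm
  · have h := LinearMap.congr_fun co.counit_comp (b j)
    simp only [LinearMap.comp_apply, hf, map_sum, LinearMap.lTensor_tmul, LinearMap.flip_apply,
      TensorProduct.mk_apply] at h
    have h' : b j ⊗ₜ[k] (1 : k) = ∑ i, b i ⊗ₜ[k] (if i = j then (1 : k) else 0) := by
      rw [Finset.sum_eq_single j]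
      · simp
      · intro i _ hi
        simp [hi]
      · intro h
        exact absurd (Finset.mem_univ j) h
    rw [h'] at h
    exact congrFun (basis_tmul_inj b h) i

end Matrix

variable {k : Type u} [CommRing k]

theorem exists_basis_of {H : Gp k} (V : GMod H) [Module.Free k V.V] [Module.Finite k V.V] {R F : Type u} [CommRing R]
    [Algebra k R] [AddCommGroup F] [Module k F] [Module R F] [IsScalarTower k R F] (co0 : HopfRep.Comod k H.O F)
    (f : V.V →ₗ[k] F) (hf : ∀ v, co0.coact (f v) = f.rTensor H.O (V.co.coact v))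
    (hs : Submodule.span R (LinearMap.range f : Set F) = ⊤) (P : F → Prop) (hP : ∀ v, P (f v)) :
    ∃ (r : ℕ) (w : Fin r → F) (M : Matrix (Fin r) (Fin r) H.O),
      (∀ l, co0.coact (w l) = ∑ m, w m ⊗ₜ[k] M m l) ∧ (∀ l, P (w l)) ∧
      (∀ i j, Coalgebra.comul (R := k) (M i j) = ∑ l, M i l ⊗ₜ[k] M l j) ∧
      (∀ i j, Coalgebra.counit (R := k) (M i j) = if i = j then 1 else 0) ∧
      Submodule.span R (Set.range w) = ⊤ := by
  classical
  let b0 := Module.Free.chooseBasis k V.V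
  let b := b0.reindex (Fintype.equivFin _)
  obtain ⟨M, h1, h2, h3⟩ := exists_matrix V.co b
  refine ⟨_, fun l => f (b l), M, fun l => ?_, fun l => hP _, h2, h3, ?_⟩
  · rw [hf, h1, map_sum]
    rfl
  · rw [eq_top_iff, ← hs, Submodule.span_le]
    rintro _ ⟨v, rfl⟩
    rw [← b.sum_repr v, map_sum]
    refine Submodule.sum_mem _ fun i _ => ?_
    rw [map_smul, ← algebraMap_smul R]
    exact Submodule.smul_mem _ _ (Submodule.subset_span ⟨i, rfl⟩)

/-- `exists_cover` in coordinates -/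
theorem exists_cover_basis (H : Gp k) (hSC : SerreCover H) {B : NFᵒᵖ ⥤ CommRingCat.{u}} (hB : GR B) {C : Type u}
    [CommRing C] (G : Gal B C) (F : PM.{u} B) (hF : F.Cart) [Module k (F.obj ⟨0⟩)] [Module k (F.obj ⟨1⟩)]
    [Algebra k (B.obj (op ⟨0⟩))] [IsScalarTower k (B.obj (op ⟨0⟩)) (F.obj ⟨0⟩)]
    (co0 : HopfRep.Comod k H.O (F.obj ⟨0⟩)) (co1 : HopfRep.Comod k H.O (F.obj ⟨1⟩))
    (p q : F.obj ⟨0⟩ →ₗ[k] F.obj ⟨1⟩) (hp : ∀ m, p m = F.map (pr ⟨0⟩) m) (hq : ∀ m, q m = F.map (lst ⟨0⟩) m)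
    (hp' : ∀ m, co1.coact (p m) = p.rTensor H.O (co0.coact m)) (hq' : ∀ m, co1.coact (q m) = q.rTensor H.O (co0.coact m))
    (hfin : Module.Finite (B.obj (op ⟨0⟩)) (F.obj ⟨0⟩)) :
    ∃ (r : ℕ) (w : Fin r → F.obj ⟨0⟩) (M : Matrix (Fin r) (Fin r) H.O),
      (∀ l, co0.coact (w l) = ∑ m, w m ⊗ₜ[k] M m l) ∧
      (∀ l, F.map (pr ⟨0⟩) (w l) = F.map (lst ⟨0⟩) (w l)) ∧
      (∀ i j, Coalgebra.comul (R := k) (M i j) = ∑ l, M i l ⊗ₜ[k] M l j) ∧
      (∀ i j, Coalgebra.counit (R := k) (M i j) = if i = j then 1 else 0) ∧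
      Submodule.span (B.obj (op ⟨0⟩)) (Set.range w) = ⊤ := by
  obtain ⟨V, hfree, hfinV, f, hf1, hf2, hf3⟩ :=
    exists_cover H hSC hB G F hF co0 co1 p q hp hq hp' hq' hfin
  exact exists_basis_of V co0 f hf1 hf3 (fun m => F.map (pr ⟨0⟩) m = F.map (lst ⟨0⟩) m) hf2

variable {A : NFᵒᵖ ⥤ CommRingCat.{u}} [GRF k A] {x : PrimeSpectrum (A.obj (op ⟨0⟩))} (c : CoverDatum k A x)

/-- `exists_V` in coordinates: **invariant generators of the differentials with their matrix** -/
theorem exists_basis (hSC : SerreCover c.H) : letI := omk c ⟨0⟩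
    ∃ (r : ℕ) (w : Fin r → (omPM c.Y.j).obj ⟨0⟩) (M : Matrix (Fin r) (Fin r) c.H.O),
      (∀ l, (omC c ⟨0⟩).coact (w l) = ∑ m, w m ⊗ₜ[k] M m l) ∧
      (∀ l, (omPM c.Y.j).map (pr ⟨0⟩) (w l) = (omPM c.Y.j).map (lst ⟨0⟩) (w l)) ∧
      (∀ i j, Coalgebra.comul (R := k) (M i j) = ∑ l, M i l ⊗ₜ[k] M l j) ∧
      (∀ i j, Coalgebra.counit (R := k) (M i j) = if i = j then 1 else 0) ∧
      Submodule.span (c.Y.D.obj (op ⟨0⟩)) (Set.range w) = ⊤ := by
  letI := omk c ⟨0⟩
  haveI := omk_tower c ⟨0⟩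
  obtain ⟨V, hfree, hfinV, f, hf1, hf2, hf3⟩ := exists_V c hSC
  exact exists_basis_of V (omC c ⟨0⟩) f hf1 hf3
    (fun m => (omPM c.Y.j).map (pr ⟨0⟩) m = (omPM c.Y.j).map (lst ⟨0⟩) m) hf2

end

end Groth.Agent.ResProp.EF.K86
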