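import Groth.Agent.ResProp.EF.K86.OmegaPt
import Groth.Agent.ResProp.EF.K343.Gpd
import Groth.Agent.ResProp.EF.K964.DatumBC

/-!
# The action of an arrow of the groupoid on the invariant generators of the differentials (S16912, producer, W3b)

`kmap_formula` : `eta : BC x D → BC y D` a ring map with a witness `E : D⟨n⟩ → BC y D`, `w : ι → Ω` `Γ`-invariant with
`coact (w l) = ∑ m, w m ⊗ C m l`; then `Ω(eta) (kmap x (w l)) = ∑ m, h (C m l) • kmap y (w m)`.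
-/

set_option autoImplicit false
set_option linter.style.haveILetI false
set_option linter.dupNamespace false

open TensorProduct CategoryTheory Opposite

namespace Groth.Agent.ResProp.EF.K86

open K784.BC K784.PM EF56 Grp Arch K477 K980 _root_.Groth.Agent.ResProp.EF.K964

universe u

noncomputable section

section Witness

variable {k : Type u} [CommRing k] {A : NFᵒᵖ ⥤ CommRingCat.{u}} [GRF k A] {x : PrimeSpectrum (A.obj (op ⟨0⟩))}
  (c : CoverDatum k A x)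

/-- a `Γ`-invariant differential has the same image along all vertices -/
theorem om_vertex {w : (omPM c.Y.j).obj ⟨0⟩} (hw : (omPM c.Y.j).map (pr ⟨0⟩) w = (omPM c.Y.j).map (lst ⟨0⟩) w) {n : ℕ}
    (i j : Fin (n + 1)) : (omPM c.Y.j).map (pt ⟨n⟩ i) w = (omPM c.Y.j).map (pt ⟨n⟩ j) w := by
  rw [← K343.ed_pr i j, (omPM c.Y.j).map_comp, hw, ← (omPM c.Y.j).map_comp, K343.ed_lst]

variable {R' : Type u} [CommRing R'] (y : A.obj (op ⟨0⟩) →+* R') (h : c.H.O →+* R')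
  (hk : ∀ r : k, h (algebraMap k c.H.O r) = y (algebraMap k (A.obj (op ⟨0⟩)) r))

/-- the `k`-algebra structure of `BC y D` -/
@[reducible] def kBC : Algebra k (BC y (c.Y.D.obj (op ⟨0⟩))) :=
  ((algebraMap R' (BC y (c.Y.D.obj (op ⟨0⟩)))).comp (y.comp (algebraMap k (A.obj (op ⟨0⟩))))).toAlgebra

/-- `bc` is `k`-linear -/
def uBC : letI := kBC c y; c.Y.D.obj (op ⟨0⟩) →ₐ[k] BC y (c.Y.D.obj (op ⟨0⟩)) :=
  letI := kBC c y
  { BC.bcHom (A := c.Y.D.obj (op ⟨0⟩)) y with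
    commutes' := fun r => BC.bc_algebraMap (A := c.Y.D.obj (op ⟨0⟩)) (x := y) (algebraMap k (A.obj (op ⟨0⟩)) r) }

/-- the constants `h o` -/
def hBC : letI := kBC c y; c.H.O →ₐ[k] BC y (c.Y.D.obj (op ⟨0⟩)) :=
  letI := kBC c y
  { (algebraMap R' (BC y (c.Y.D.obj (op ⟨0⟩)))).comp h with
    commutes' := fun r => congrArg (algebraMap R' (BC y (c.Y.D.obj (op ⟨0⟩)))) (hk r) }

/-- `d ↦ ∑ h (d₁) • bc y d₀` -/
def hU : c.Y.D.obj (op ⟨0⟩) →+* BC y (c.Y.D.obj (op ⟨0⟩)) :=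
  letI := kBC c y
  (Algebra.TensorProduct.lift (uBC c y) (hBC c y h hk) (fun _ _ => Commute.all _ _)).toRingHom.comp
    (c.ρ ⟨0⟩).ρ.toRingHom

theorem hU_apply (d : c.Y.D.obj (op ⟨0⟩)) : letI := kBC c y;
    hU c y h hk d = Algebra.TensorProduct.lift (uBC c y) (hBC c y h hk) (fun _ _ => Commute.all _ _)
      ((c.ρ ⟨0⟩).ρ d) := rfl

/-- characterization of `hU` through additive maps -/
theorem hU_eq {F : c.Y.D.obj (op ⟨0⟩) ⊗[k] c.H.O → BC y (c.Y.D.obj (op ⟨0⟩))} (h0 : F 0 = 0)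
    (hadd : ∀ z z', F (z + z') = F z + F z') (ht : ∀ d o, F (d ⊗ₜ o) = h o • bc y d) (d : c.Y.D.obj (op ⟨0⟩)) :
    hU c y h hk d = F ((c.ρ ⟨0⟩).ρ d) := by
  letI := kBC c y
  rw [hU_apply]
  generalize (c.ρ ⟨0⟩).ρ d = z
  induction z with
  | zero => rw [map_zero, h0]
  | add z z' hz hz' => rw [map_add, hadd, hz, hz']
  | tmul a s =>
    rw [ht]
    refine (Algebra.TensorProduct.lift_tmul (uBC c y) (hBC c y h hk) (fun _ _ => Commute.all _ _) a s).trans ?_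
    rw [Algebra.smul_def, mul_comm]
    rfl

/-- `kmap`, on the module of differentials of `omPM` -/
def kap : (omPM c.Y.j).obj ⟨0⟩ →+ Ω[BC y (c.Y.D.obj (op ⟨0⟩))⁄R'] := kmap y

theorem kap_smul (a : c.Y.D.obj (op ⟨0⟩)) (v : (omPM c.Y.j).obj ⟨0⟩) : kap c y (a • v) = bc y a • kap c y v :=
  kmap_smul y a v

theorem kap_omd (a : c.Y.D.obj (op ⟨0⟩)) : kap c y (omd c.Y.j ⟨0⟩ a) = KaehlerDifferential.D R' _ (bc y a) :=
  kmap_D y a

variable {ι : Type*} [Fintype ι] (w : ι → (omPM c.Y.j).obj ⟨0⟩) (C : Matrix ι ι c.H.O)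
  (hinv : ∀ l, (omPM c.Y.j).map (pr ⟨0⟩) (w l) = (omPM c.Y.j).map (lst ⟨0⟩) (w l))
  (hco : letI := omk c ⟨0⟩; ∀ l, (omC c ⟨0⟩).coact (w l) = ∑ m, w m ⊗ₜ[k] C m l)

include hinv hco in
/-- **the action of an arrow on the invariant differentials** -/
theorem kmap_formula {x' : A.obj (op ⟨0⟩) →+* R'} {n : ℕ} (i j : Fin (n + 1)) (ga : A.obj (op ⟨n⟩) →+* R')
    (E : c.Y.D.obj (op ⟨n⟩) →+* BC y (c.Y.D.obj (op ⟨0⟩)))
    (hE : ∀ r, E (algebraMap (A.obj (op ⟨n⟩)) (c.Y.D.obj (op ⟨n⟩)) r) = algebraMap R' _ (ga r))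
    (eta : BC x' (c.Y.D.obj (op ⟨0⟩)) →+* BC y (c.Y.D.obj (op ⟨0⟩)))
    (h0 : ∀ d, E (rg c.Y.D (pt ⟨n⟩ i) d) = eta (bc x' d))
    (h1 : ∀ d, E (rg c.Y.D (pt ⟨n⟩ j) d) = hU c y h hk d)
    (g : Ω[BC x' (c.Y.D.obj (op ⟨0⟩))⁄R'] →+ Ω[BC y (c.Y.D.obj (op ⟨0⟩))⁄R'])
    (hg : ∀ a b, g (a • KaehlerDifferential.D R' _ b) = eta a • KaehlerDifferential.D R' _ (eta b)) (l : ι) :
    g (kmap x' (w l)) = ∑ m, h (C m l) • kmap y (w m) := by
  letI := omk c ⟨0⟩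
  haveI := omk_tower c ⟨0⟩
  letI := kBC c y
  -- the map of differentials of `E`
  obtain ⟨gE, hgE⟩ : ∃ gE : (omPM c.Y.j).obj ⟨n⟩ →+ Ω[BC y (c.Y.D.obj (op ⟨0⟩))⁄R'],
      ∀ a b, gE (a • omd c.Y.j ⟨n⟩ b) = E a • KaehlerDifferential.D R' _ (E b) := by
    obtain ⟨gE, hgE1, hgE2⟩ := KD.exists_lift (c.Y.j.app (op ⟨n⟩)).hom E
      ((KaehlerDifferential.D R' (BC y (c.Y.D.obj (op ⟨0⟩)))).toLinearMap.toAddMonoidHom.comp E.toAddMonoidHom)
      (fun a b => by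
        change KaehlerDifferential.D R' _ (E (a * b)) = E a • KaehlerDifferential.D R' _ (E b) +
          E b • KaehlerDifferential.D R' _ (E a)
        rw [map_mul, Derivation.leibniz])
      (fun r => by
        change KaehlerDifferential.D R' _ (E (algebraMap (A.obj (op ⟨n⟩)) (c.Y.D.obj (op ⟨n⟩)) r)) = 0
        rw [hE, Derivation.map_algebraMap])
    exact ⟨gE, fun a b => (hgE1 a _).trans (congrArg (E a • ·) (hgE2 b))⟩
  have e1 : ∀ v : (omPM c.Y.j).obj ⟨0⟩, g (kap c x' v) = gE ((omPM c.Y.j).map (pt ⟨n⟩ i) v) := by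
    intro v
    induction v using (isKD_om c.Y.j ⟨0⟩).induction with
    | zero => rw [map_zero, map_zero, map_zero, map_zero]
    | add v v' hv hv' => rw [map_add, map_add, map_add, map_add, hv, hv']
    | smul_d a b =>
      rw [(omPM c.Y.j).map_smul, omPM_map_omd]
      refine Eq.trans ?_ (hgE _ _).symm
      rw [h0, h0, kap_smul, kap_omd, hg]
  change g (kap c x' (w l)) = ∑ m, h (C m l) • kap c y (w m)
  rw [e1, om_vertex c (hinv l) i j]
  obtain ⟨T, hT⟩ := exists_ptMap (k := k) (B'' := BC y (c.Y.D.obj (op ⟨0⟩))) (hBC c y h hk) (kap c y)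
    (fun r v => (kap_smul c y (algebraMap k (c.Y.D.obj (op ⟨0⟩)) r) v).trans
      (congrArg (· • kap c y v) ((uBC c y).commutes r)))
  have e2 := point_formula (isKD_om c.Y.j ⟨0⟩) (omk_hk c ⟨0⟩) (c.ρ ⟨0⟩) (c.ρ_lin ⟨0⟩)
    (d'' := (KaehlerDifferential.D R' (BC y (c.Y.D.obj (op ⟨0⟩)))).toLinearMap.toAddMonoidHom)
    (fun a b => (KaehlerDifferential.D R' (BC y (c.Y.D.obj (op ⟨0⟩)))).leibniz a b)
    (uBC c y) (hBC c y h hk) (fun o => (KaehlerDifferential.D R' (BC y (c.Y.D.obj (op ⟨0⟩)))).map_algebraMap (h o))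
    (hU c y h hk) (hU_apply c y h hk) (kap c y) (gE.comp ((omPM c.Y.j).map (pt ⟨n⟩ j)))
    (fun a b => by
      rw [kap_smul, kap_omd]
      rfl)
    (fun a b => by
      change gE ((omPM c.Y.j).map (pt ⟨n⟩ j) (a • omd c.Y.j ⟨0⟩ b)) = _
      rw [(omPM c.Y.j).map_smul, omPM_map_omd]
      refine (hgE _ _).trans ?_
      rw [h1, h1]
      rfl) T hT (w l)
  refine e2.trans ?_
  refine (congrArg T (hco l)).trans ?_
  rw [map_sum]
  refine Finset.sum_congr rfl fun m _ => ?_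
  rw [hT]
  exact algebraMap_smul (BC y (c.Y.D.obj (op ⟨0⟩))) (h (C m l)) (kap c y (w m))

end Witness

end

end Groth.Agent.ResProp.EF.K86
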