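import Groth.Agent.ResProp.EF.K86.KmapPt
import Groth.Agent.ResProp.EF.K959.Desc

/-!
# The levels `B ⊗ A⟨n⟩`: the vertices of `D` and the action on the invariant differentials (S16912, producer, W3b)

* `vtxD_bijective` : `BC (xp k A B n i) D⟨0⟩ → B ⊗ D⟨n⟩` is bijective;
* `wit c B n j h : D⟨n⟩ →+* BC (xp k A B n j) D⟨0⟩`, the witness of the arrow of `h`;
* `kmap_formula_lv` : `kmap_formula` for the arrows of the levels, in the form of `EtaMatch`;
* `exists_basis` : `exists_V` with a basis and matrix coefficients.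
-/

set_option autoImplicit false
set_option linter.style.haveILetI false
set_option linter.dupNamespace false

open TensorProduct CategoryTheory Opposite

namespace Groth.Agent.ResProp.EF.K86

open K784.BC K784.PM EF56 Grp Arch K477 K980 _root_.Groth.Agent.ResProp.EF.K964

universe u

noncomputable section

section PO

theorem isPO_tensor (k : Type u) [CommRing k] (B A D : Type u) [CommRing B] [CommRing A] [CommRing D] [Algebra k B]
    [Algebra k A] [Algebra k D] [Algebra A D] [IsScalarTower k A D] :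
    IsPO (Algebra.TensorProduct.includeRight (R := k) (A := B) (B := A)).toRingHom (algebraMap A D)
      (Algebra.TensorProduct.map (AlgHom.id k B) (IsScalarTower.toAlgHom k A D)).toRingHom
      (Algebra.TensorProduct.includeRight (R := k) (A := B) (B := D)).toRingHom := by
  have s1 := (CommRingCat.isPushout_tensorProduct k B A).flip
  have s2 := (CommRingCat.isPushout_tensorProduct k B D).flip
  have e1 : CommRingCat.ofHom (algebraMap k D) = CommRingCat.ofHom (algebraMap k A) ≫ CommRingCat.ofHom (algebraMap A D) := by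
    rw [← CommRingCat.ofHom_comp, ← IsScalarTower.algebraMap_eq k A D]
  have e2 : CommRingCat.ofHom (Algebra.TensorProduct.includeLeft (R := k) (S := k) (A := B) (B := D)).toRingHom =
      CommRingCat.ofHom (Algebra.TensorProduct.includeLeft (R := k) (S := k) (A := B) (B := A)).toRingHom ≫
        CommRingCat.ofHom (Algebra.TensorProduct.map (AlgHom.id k B) (IsScalarTower.toAlgHom k A D)).toRingHom := by
    apply CommRingCat.hom_ext
    ext b
    change b ⊗ₜ[k] (1 : D) = Algebra.TensorProduct.map (AlgHom.id k B) (IsScalarTower.toAlgHom k A D) (b ⊗ₜ 1)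
    rw [Algebra.TensorProduct.map_tmul, map_one]
    rfl
  have s3 : IsPushout (CommRingCat.ofHom (algebraMap k A) ≫ CommRingCat.ofHom (algebraMap A D))
      (CommRingCat.ofHom (algebraMap k B))
      (CommRingCat.ofHom (Algebra.TensorProduct.includeRight (R := k) (A := B) (B := D)).toRingHom)
      (CommRingCat.ofHom (Algebra.TensorProduct.includeLeft (R := k) (S := k) (A := B) (B := A)).toRingHom ≫
        CommRingCat.ofHom (Algebra.TensorProduct.map (AlgHom.id k B) (IsScalarTower.toAlgHom k A D)).toRingHom) := by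
    rw [← e1, ← e2]
    exact s2
  refine (IsPushout.of_left s3 ?_ s1).flip
  apply CommRingCat.hom_ext
  ext a
  change (1 : B) ⊗ₜ[k] algebraMap A D a = Algebra.TensorProduct.map (AlgHom.id k B) (IsScalarTower.toAlgHom k A D) (1 ⊗ₜ a)
  rw [Algebra.TensorProduct.map_tmul]
  rfl

/-- a ring map exhibits its target as a base change of its source -/
theorem isBC_self {A B : Type u} [CommRing A] [CommRing B] (φ : A →+* B) : IsBC φ φ.toAddMonoidHom := by
  refine IsBC.of_lift (fun a m => map_mul φ a m) fun Q _ _ g hg => ?_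
  refine ⟨LinearMap.toSpanSingleton B Q (g 1), fun m => ?_, fun g' h => ?_⟩
  · change φ m • g 1 = g m
    rw [← hg, smul_eq_mul, mul_one]
  · refine LinearMap.ext_ring ?_
    have h1 : g' (φ 1) = g 1 := h 1
    rw [map_one] at h1
    rw [h1, LinearMap.toSpanSingleton_apply, one_smul]

end PO

section Level

variable {k : Type u} [CommRing k] {A : NFᵒᵖ ⥤ CommRingCat.{u}} [GRF k A] {x : PrimeSpectrum (A.obj (op ⟨0⟩))}
  (c : CoverDatum k A x) (B : Type u) [CommRing B] [Algebra k B] (n : ℕ)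

theorem isPO_vtx (i : Fin (n + 1)) : IsPO (xp k A B n i) (algebraMap (A.obj (op ⟨0⟩)) (c.Y.D.obj (op ⟨0⟩))) (lvD c B n)
    ((Algebra.TensorProduct.includeRight (R := k) (A := B) (B := c.Y.D.obj (op ⟨n⟩))).toRingHom.comp
      (rg c.Y.D (pt ⟨n⟩ i))) := by
  have s1 : IsPO (rg A (pt ⟨n⟩ i)) (algebraMap (A.obj (op ⟨0⟩)) (c.Y.D.obj (op ⟨0⟩)))
      (algebraMap (A.obj (op ⟨n⟩)) (c.Y.D.obj (op ⟨n⟩))) (rg c.Y.D (pt ⟨n⟩ i)) := c.Y.cart (pt ⟨n⟩ i)
  have s2 := isPO_tensor k B (A.obj (op ⟨n⟩)) (c.Y.D.obj (op ⟨n⟩))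
  exact IsPushout.paste_horiz s1 s2

/-- the ring map of the `i`-th vertex -/
def vtxH (i : Fin (n + 1)) : c.Y.D.obj (op ⟨0⟩) →+* B ⊗[k] c.Y.D.obj (op ⟨n⟩) :=
  (Algebra.TensorProduct.includeRight (R := k) (A := B) (B := c.Y.D.obj (op ⟨n⟩))).toRingHom.comp (rg c.Y.D (pt ⟨n⟩ i))

theorem vtxD_bc (i : Fin (n + 1)) (d : c.Y.D.obj (op ⟨0⟩)) :
    vtxD c B n i (bc (xp k A B n i) d) = 1 ⊗ₜ rg c.Y.D (pt ⟨n⟩ i) d := BC.lift_bc rfl _ d

theorem isBC_vtx (i : Fin (n + 1)) :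
    letI : Module (B ⊗[k] A.obj (op ⟨n⟩)) (B ⊗[k] c.Y.D.obj (op ⟨n⟩)) := Module.compHom _ (lvD c B n)
    IsBC (xp k A B n i) (vtxH c B n i).toAddMonoidHom :=
  letI : Module (B ⊗[k] A.obj (op ⟨n⟩)) (B ⊗[k] c.Y.D.obj (op ⟨n⟩)) := Module.compHom _ (lvD c B n)
  IsBC.of_po (isPO_vtx c B n i) (fun r m => Algebra.smul_def r m) (fun _ _ => rfl) (isBC_self (vtxH c B n i))

theorem vtxD_bijective (i : Fin (n + 1)) : Function.Bijective (vtxD c B n i) := by
  letI : Module (B ⊗[k] A.obj (op ⟨n⟩)) (B ⊗[k] c.Y.D.obj (op ⟨n⟩)) := Module.compHom _ (lvD c B n)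
  obtain ⟨e, he⟩ := (K959.isBC_bc (xp k A B n i) (c.Y.D.obj (op ⟨0⟩))).exists_equiv (isBC_vtx c B n i)
  have h : (vtxD c B n i : _ → _) = e := by
    funext z
    induction z using BC.ind with
    | h0 => rw [map_zero, map_zero]
    | h2 a b ha hb => rw [map_add, map_add, ha, hb]
    | h1 r a =>
      rw [LinearMap.map_smulₛₗ, map_smul, vtxD_bc]
      have h1 : e (bc (xp k A B n i) a) = 1 ⊗ₜ rg c.Y.D (pt ⟨n⟩ i) a := he a
      rw [h1]
      rfl
  rw [h]
  exact e.bijective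

/-- `vtxD` as a ring isomorphism -/
def vtxR (i : Fin (n + 1)) : BC (xp k A B n i) (c.Y.D.obj (op ⟨0⟩)) →+* B ⊗[k] c.Y.D.obj (op ⟨n⟩) :=
  letI := (lvD c B n).toAlgebra
  (BC.liftAlg (x := xp k A B n i) (A := c.Y.D.obj (op ⟨0⟩)) (vtxH c B n i)
    (fun r => congr($((isPO_vtx c B n i).comm.symm) r))).toRingHom

theorem vtxR_bc (i : Fin (n + 1)) (d : c.Y.D.obj (op ⟨0⟩)) :
    vtxR c B n i (bc (xp k A B n i) d) = 1 ⊗ₜ rg c.Y.D (pt ⟨n⟩ i) d :=
  letI := (lvD c B n).toAlgebra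
  BC.liftAlg_bc _ _ d

theorem vtxR_algebraMap (i : Fin (n + 1)) (s : B ⊗[k] A.obj (op ⟨n⟩)) :
    vtxR c B n i (algebraMap _ _ s) = lvD c B n s :=
  letI := (lvD c B n).toAlgebra
  (BC.liftAlg (x := xp k A B n i) (A := c.Y.D.obj (op ⟨0⟩)) (vtxH c B n i)
    (fun r => congr($((isPO_vtx c B n i).comm.symm) r))).commutes s

theorem vtxR_apply (i : Fin (n + 1)) (z : BC (xp k A B n i) (c.Y.D.obj (op ⟨0⟩))) :
    vtxR c B n i z = vtxD c B n i z := by
  induction z using BC.ind with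
  | h0 => rw [map_zero, map_zero]
  | h2 a b ha hb => rw [map_add, map_add, ha, hb]
  | h1 r a => rw [LinearMap.map_smulₛₗ, Algebra.smul_def, map_mul, vtxR_algebraMap, vtxR_bc, vtxD_bc, smul_eq_mul]

/-- `vtxD` as a ring isomorphism -/
def vtxE (i : Fin (n + 1)) : BC (xp k A B n i) (c.Y.D.obj (op ⟨0⟩)) ≃+* B ⊗[k] c.Y.D.obj (op ⟨n⟩) :=
  RingEquiv.ofBijective (vtxR c B n i) (by
    have h : (vtxR c B n i : _ → _) = vtxD c B n i := funext (vtxR_apply c B n i)
    rw [h]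
    exact vtxD_bijective c B n i)

theorem vtxE_apply (i : Fin (n + 1)) (z : BC (xp k A B n i) (c.Y.D.obj (op ⟨0⟩))) :
    vtxE c B n i z = vtxD c B n i z := vtxR_apply c B n i z

/-- the witness of the arrow of `h` with target the `j`-th vertex -/
def wit (j : Fin (n + 1)) (h : c.H.O →ₐ[k] B) :
    c.Y.D.obj (op ⟨n⟩) →+* BC (xp k A B n j) (c.Y.D.obj (op ⟨0⟩)) :=
  (vtxE c B n j).symm.toRingHom.comp (hActAlg c B n h).toRingHom

theorem vtxE_wit (j : Fin (n + 1)) (h : c.H.O →ₐ[k] B) (d : c.Y.D.obj (op ⟨n⟩)) :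
    vtxE c B n j (wit c B n j h d) = hActAlg c B n h d := (vtxE c B n j).apply_symm_apply _

/-- the witness is over `A⟨n⟩` -/
theorem wit_algebraMap (j : Fin (n + 1)) (h : c.H.O →ₐ[k] B) (r : A.obj (op ⟨n⟩)) :
    wit c B n j h (algebraMap _ _ r) = algebraMap _ _ (Algebra.TensorProduct.includeRight (R := k) (A := B) r) := by
  apply (vtxE c B n j).injective
  rw [vtxE_wit]
  refine Eq.trans ?_ (vtxR_algebraMap c B n j _).symm
  exact congr($(lvD_comm_h c B n h) r)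

/-- the witness at the source -/
theorem wit_source (i j : Fin (n + 1)) (h : c.H.O →ₐ[k] B)
    {eta : BC (xp k A B n i) (c.Y.D.obj (op ⟨0⟩)) → BC (xp k A B n j) (c.Y.D.obj (op ⟨0⟩))}
    (heta : ∀ d, vtxD c B n j (eta (bc _ d)) = hAct c B n h (rg c.Y.D (pt ⟨n⟩ i) d)) (d : c.Y.D.obj (op ⟨0⟩)) :
    wit c B n j h (rg c.Y.D (pt ⟨n⟩ i) d) = eta (bc _ d) := by
  apply (vtxE c B n j).injective
  rw [vtxE_wit, vtxE_apply, heta, hActAlg_apply]

/-- a point of `H` over `B`, as a point over the level -/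
def hLv (h : c.H.O →ₐ[k] B) : c.H.O →+* B ⊗[k] A.obj (op ⟨n⟩) :=
  ((Algebra.TensorProduct.includeLeft (R := k) (S := k) (A := B) (B := A.obj (op ⟨n⟩))).comp h).toRingHom

theorem hLv_apply (h : c.H.O →ₐ[k] B) (o : c.H.O) : hLv c B n h o = h o ⊗ₜ 1 := rfl

theorem hLv_k (j : Fin (n + 1)) (h : c.H.O →ₐ[k] B) (r : k) :
    hLv c B n h (algebraMap k c.H.O r) = xp k A B n j (algebraMap k (A.obj (op ⟨0⟩)) r) := by
  change ((Algebra.TensorProduct.includeLeft (R := k) (S := k) (A := B) (B := A.obj (op ⟨n⟩))).comp h)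
    (algebraMap k c.H.O r) = (Algebra.TensorProduct.includeRight (R := k) (A := B) (B := A.obj (op ⟨n⟩)))
      (rg A (pt ⟨n⟩ j) (algebraMap k (A.obj (op ⟨0⟩)) r))
  rw [AlgHom.commutes, GRF.map_k, AlgHom.commutes]

/-- the witness at the target -/
theorem wit_target (j : Fin (n + 1)) (h : c.H.O →ₐ[k] B) (d : c.Y.D.obj (op ⟨0⟩)) :
    wit c B n j h (rg c.Y.D (pt ⟨n⟩ j) d) = hU c (xp k A B n j) (hLv c B n h) (hLv_k c B n j h) d := by
  apply (vtxE c B n j).injective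
  rw [vtxE_wit, hActAlg_def]
  letI := kBC c (xp k A B n j)
  have e1 : (c.ρ ⟨n⟩).ρ (rg c.Y.D (pt ⟨n⟩ j) d) =
      (c.Y.rk (k := k) (pt ⟨n⟩ j)).toLinearMap.rTensor c.H.O ((c.ρ ⟨0⟩).ρ d) := c.ρ_nat (pt ⟨n⟩ j) d
  rw [e1, hU_apply]
  change _ = vtxR c B n j _
  generalize (c.ρ ⟨0⟩).ρ d = z
  induction z with
  | zero => rw [map_zero, map_zero, map_zero, map_zero]
  | add z z' hz hz' => rw [map_add, map_add, map_add, map_add, hz, hz']
  | tmul a s =>
    rw [LinearMap.rTensor_tmul]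
    refine (Algebra.TensorProduct.lift_tmul _ _ _ _ _).trans ?_
    refine Eq.trans ?_ (congrArg (vtxR c B n j) (Algebra.TensorProduct.lift_tmul (uBC c (xp k A B n j))
      (hBC c (xp k A B n j) (hLv c B n h) (hLv_k c B n j h)) (fun _ _ => Commute.all _ _) a s).symm)
    rw [map_mul]
    refine congrArg₂ (· * ·) (vtxR_bc c B n j a).symm ?_
    refine Eq.trans ?_ (vtxR_algebraMap c B n j (hLv c B n h s)).symm
    change h s ⊗ₜ[k] (1 : c.Y.D.obj (op ⟨n⟩)) = Algebra.TensorProduct.map (AlgHom.id k B)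
      (IsScalarTower.toAlgHom k (A.obj (op ⟨n⟩)) (c.Y.D.obj (op ⟨n⟩))) (h s ⊗ₜ 1)
    rw [Algebra.TensorProduct.map_tmul, map_one]
    rfl

variable {ι : Type*} [Fintype ι] (w : ι → (omPM c.Y.j).obj ⟨0⟩) (C : Matrix ι ι c.H.O)
  (hinv : ∀ l, (omPM c.Y.j).map (pr ⟨0⟩) (w l) = (omPM c.Y.j).map (lst ⟨0⟩) (w l))
  (hco : letI := omk c ⟨0⟩; ∀ l, (omC c ⟨0⟩).coact (w l) = ∑ m, w m ⊗ₜ[k] C m l)

include hinv hco in
/-- **the action of the arrows of the levels on the invariant differentials** -/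
theorem kmap_formula_lv (i j : Fin (n + 1)) (h : c.H.O →ₐ[k] B)
    (eta : BC (xp k A B n i) (c.Y.D.obj (op ⟨0⟩)) →+* BC (xp k A B n j) (c.Y.D.obj (op ⟨0⟩)))
    (heta : ∀ d, vtxD c B n j (eta (bc _ d)) = hAct c B n h (rg c.Y.D (pt ⟨n⟩ i) d))
    (g : Ω[BC (xp k A B n i) (c.Y.D.obj (op ⟨0⟩))⁄B ⊗[k] A.obj (op ⟨n⟩)] →+
      Ω[BC (xp k A B n j) (c.Y.D.obj (op ⟨0⟩))⁄B ⊗[k] A.obj (op ⟨n⟩)])
    (hg : ∀ a b, g (a • KaehlerDifferential.D _ _ b) = eta a • KaehlerDifferential.D _ _ (eta b)) (l : ι) :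
    g (kmap (xp k A B n i) (w l)) = ∑ m, (h (C m l) ⊗ₜ[k] (1 : A.obj (op ⟨n⟩))) • kmap (xp k A B n j) (w m) :=
  kmap_formula c (xp k A B n j) (hLv c B n h) (hLv_k c B n j h) w C hinv hco i j
    (Algebra.TensorProduct.includeRight (R := k) (A := B) (B := A.obj (op ⟨n⟩))).toRingHom (wit c B n j h)
    (wit_algebraMap c B n j h) eta (wit_source c B n i j h heta) (wit_target c B n j h) g hg l

end Level

end

end Groth.Agent.ResProp.EF.K86
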