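import Groth.Agent.ResProp.EF.X56.NF
import Groth.Agent.ResProp.EF.K83.FinDatum
import Mathlib.RingTheory.Kaehler.TensorProduct

/-!
# Kähler differentials of a comodule algebra (S16912, 980: 2.3 / 3.1)

`KD f` : Kähler differentials of a ring homomorphism `f : A →+* B`; functorial in commutative squares (`KD.map`), base
change along pushout squares (`KD.isBC`).  For `j : A ⟶ D` natural and cartesian the family `KD (j.app n)` is a cartesian
module over `D` (`omPM`, `omPM_cart`).
-/

set_option autoImplicit false
set_option linter.style.haveILetI false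
set_option backward.isDefEq.respectTransparency false
set_option backward.isDefEq.respectTransparency.types false

open TensorProduct CategoryTheory Opposite

namespace Groth.Agent.ResProp.EF.K86

open K784.BC K784.PM

universe u v₁ u₁

noncomputable section

section KD

variable {A B A' B' : Type u} [CommRing A] [CommRing B] [CommRing A'] [CommRing B']

/-- Kähler differentials of a ring homomorphism -/
abbrev KD (f : A →+* B) : Type u := @KaehlerDifferential A B _ _ f.toAlgebra

/-- the universal derivation -/
def KD.d (f : A →+* B) : B →+ KD f :=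
  letI := f.toAlgebra
  (KaehlerDifferential.D A B).toLinearMap.toAddMonoidHom

theorem KD.d_mul (f : A →+* B) (x y : B) : KD.d f (x * y) = x • KD.d f y + y • KD.d f x := by
  letI := f.toAlgebra
  exact (KaehlerDifferential.D A B).leibniz x y

theorem KD.d_apply (f : A →+* B) (a : A) : KD.d f (f a) = 0 := by
  letI := f.toAlgebra
  exact (KaehlerDifferential.D A B).map_algebraMap a

theorem KD.span (f : A →+* B) : Submodule.span B (Set.range (KD.d f)) = ⊤ := by
  letI := f.toAlgebra
  exact KaehlerDifferential.span_range_derivation A B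

@[elab_as_elim]
theorem KD.induction (f : A →+* B) {motive : KD f → Prop} (w : KD f) (zero : motive 0)
    (smul_d : ∀ (b x : B), motive (b • KD.d f x)) (add : ∀ x y, motive x → motive y → motive (x + y)) : motive w := by
  have hw : w ∈ Submodule.span B (Set.range (KD.d f)) := by
    rw [KD.span]
    trivial
  induction hw using Submodule.span_induction with
  | mem x hx =>
    obtain ⟨y, rfl⟩ := hx
    simpa using smul_d 1 y
  | zero => exact zero
  | add x y _ _ hx hy => exact add x y hx hy
  | smul b x hx ih =>
    clear ih
    induction hx using Submodule.span_induction generalizing b with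
    | mem x hx =>
      obtain ⟨y, rfl⟩ := hx
      exact smul_d b y
    | zero => simpa using zero
    | add x y _ _ hx hy =>
      rw [smul_add]
      exact add _ _ (hx b) (hy b)
    | smul c x _ ih =>
      rw [smul_smul]
      exact ih (b * c)

/-- two additive maps, semilinear along the same ring homomorphism, which agree on differentials, are equal -/
theorem KD.hom_ext (f : A →+* B) {Q : Type*} [AddCommGroup Q] [Module B' Q] (b : B →+* B') {g g' : KD f →+ Q}
    (hg : ∀ (x : B) w, g (x • w) = b x • g w) (hg' : ∀ (x : B) w, g' (x • w) = b x • g' w)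
    (h : ∀ x, g (KD.d f x) = g' (KD.d f x)) : g = g' := by
  ext w
  induction w using KD.induction with
  | zero => simp
  | smul_d c x => rw [hg, hg', h]
  | add x y hx hy => rw [map_add, map_add, hx, hy]

/-- universal property: a derivation with values in a module over another ring -/
theorem KD.exists_lift (f : A →+* B) {Q : Type*} [AddCommGroup Q] [Module B' Q] (b : B →+* B') (δ : B →+ Q)
    (hδ : ∀ x y, δ (x * y) = b x • δ y + b y • δ x) (h0 : ∀ a, δ (f a) = 0) :
    ∃ g : KD f →+ Q, (∀ (x : B) w, g (x • w) = b x • g w) ∧ ∀ x, g (KD.d f x) = δ x := by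
  letI := f.toAlgebra
  letI : Module B Q := Module.compHom Q b
  letI : Module A Q := Module.compHom Q (b.comp f)
  haveI : IsScalarTower A B Q := ⟨fun a x q => by
    change b (f a * x) • q = b (f a) • b x • q
    rw [map_mul, mul_smul]⟩
  let D₀ : Derivation A B Q :=
    { toFun := δ
      map_add' := δ.map_add
      map_smul' := fun a x => by
        change δ (a • x) = b (f a) • δ x
        rw [Algebra.smul_def]
        change δ (f a * x) = _
        rw [hδ, h0, smul_zero, add_zero]
      map_one_eq_zero' := by
        change δ 1 = 0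
        have := h0 1
        rwa [map_one] at this
      leibniz' := fun x y => hδ x y }
  exact ⟨D₀.liftKaehlerDifferential.toAddMonoidHom, fun x w => D₀.liftKaehlerDifferential.map_smul x w,
    fun x => D₀.liftKaehlerDifferential_comp_D x⟩

/-- functoriality in commutative squares -/
theorem KD.exists_map (f : A →+* B) (f' : A' →+* B') (a : A →+* A') (b : B →+* B') (h : b.comp f = f'.comp a) :
    ∃ g : KD f →+ KD f', (∀ (x : B) w, g (x • w) = b x • g w) ∧ ∀ x, g (KD.d f x) = KD.d f' (b x) :=
  KD.exists_lift f b ((KD.d f').comp b.toAddMonoidHom) (fun x y => by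
    change KD.d f' (b (x * y)) = _
    rw [map_mul, KD.d_mul]
    rfl) (fun r => by
    change KD.d f' (b (f r)) = 0
    have : b (f r) = f' (a r) := congr($h r)
    rw [this, KD.d_apply])

/-- the map of Kähler differentials of a commutative square -/
def KD.map {f : A →+* B} {f' : A' →+* B'} {a : A →+* A'} {b : B →+* B'} (h : b.comp f = f'.comp a) : KD f →+ KD f' :=
  (KD.exists_map f f' a b h).choose

theorem KD.map_smul {f : A →+* B} {f' : A' →+* B'} {a : A →+* A'} {b : B →+* B'} (h : b.comp f = f'.comp a) (x : B)
    (w : KD f) : KD.map h (x • w) = b x • KD.map h w :=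
  (KD.exists_map f f' a b h).choose_spec.1 x w

@[simp] theorem KD.map_d {f : A →+* B} {f' : A' →+* B'} {a : A →+* A'} {b : B →+* B'} (h : b.comp f = f'.comp a) (x : B) :
    KD.map h (KD.d f x) = KD.d f' (b x) :=
  (KD.exists_map f f' a b h).choose_spec.2 x

/-- base change of Kähler differentials along a pushout square -/
theorem KD.isBC {f : A →+* B} {f' : A' →+* B'} {a : A →+* A'} {b : B →+* B'} (h : IsPO a f f' b) :
    IsBC b (KD.map h.comm.symm) := by
  letI := a.toAlgebra; letI := f.toAlgebra; letI := b.toAlgebra
  letI := f'.toAlgebra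
  letI := (b.comp f).toAlgebra
  haveI : IsScalarTower A B B' := IsScalarTower.of_algebraMap_eq fun _ => rfl
  haveI : IsScalarTower A A' B' := IsScalarTower.of_algebraMap_eq fun r => congr($(h.comm.symm) r)
  haveI : Algebra.IsPushout A A' B B' := h.alg
  have h1 := KaehlerDifferential.isBaseChange A A' B B'
  have h2 : KD.map h.comm.symm = ((KaehlerDifferential.map A A' B B').restrictScalars A).toAddMonoidHom := by
    refine KD.hom_ext f b (KD.map_smul _) (fun x w => ?_) (fun x => ?_)
    · exact ((KaehlerDifferential.map A A' B B').map_smul x w).trans (algebraMap_smul B' x _).symm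
    · rw [KD.map_d]
      exact (KaehlerDifferential.map_D A A' B B' x).symm
  have h3 : IsBC a (KD.map h.comm.symm) := by
    rw [h2]
    exact (isBC_iff _).2 h1
  exact IsBC.to_po h (fun r m => (algebraMap_smul B r m).symm) (fun r m => (algebraMap_smul B' r m).symm)
    (KD.map_smul _) h3

end KD

section PM

variable {𝒞 : Type u₁} [Category.{v₁} 𝒞] {A D : 𝒞ᵒᵖ ⥤ CommRingCat.{u}} (j : A ⟶ D)

theorem om_comm {x z : 𝒞} (φ : x ⟶ z) :
    (rg D φ).comp (j.app (op z)).hom = (j.app (op x)).hom.comp (rg A φ) :=
  congrArg CommRingCat.Hom.hom (j.naturality φ.op).symm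

/-- the module of relative differentials of a morphism of presheaves of rings -/
def omPM : PM.{u} D where
  obj z := KD (j.app (op z)).hom
  map φ := KD.map (om_comm j φ)
  map_smul φ r m := KD.map_smul _ r m
  map_id z m := by
    have h : KD.map (om_comm j (𝟙 z)) = AddMonoidHom.id _ :=
      KD.hom_ext _ (RingHom.id _) (fun x w => (KD.map_smul _ x w).trans
        (congrArg (fun r => r • KD.map (om_comm j (𝟙 z)) w) (congr($(rg_id D z) x)))) (fun _ _ => rfl) (fun x =>
        (KD.map_d (om_comm j (𝟙 z)) x).trans (congrArg (KD.d _) (congr($(rg_id D z) x))))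
    rw [h]
    rfl
  map_comp ψ φ m := by
    have h : KD.map (om_comm j (ψ ≫ φ)) = (KD.map (om_comm j ψ)).comp (KD.map (om_comm j φ)) :=
      KD.hom_ext _ (rg D (ψ ≫ φ)) (fun x w => KD.map_smul _ x w) (fun x w => by
        change KD.map (om_comm j ψ) (KD.map (om_comm j φ) (x • w)) = _
        rw [KD.map_smul, KD.map_smul]
        exact congrArg (fun r => r • KD.map (om_comm j ψ) (KD.map (om_comm j φ) w)) (rg_comp_apply D ψ φ x).symm)
        (fun x => by
        change _ = KD.map (om_comm j ψ) (KD.map (om_comm j φ) _)
        rw [KD.map_d, KD.map_d, KD.map_d]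
        exact congrArg (KD.d _) (rg_comp_apply D ψ φ x))
    rw [h]
    rfl

theorem omPM_map_d {x z : 𝒞} (φ : x ⟶ z) (y : D.obj (op z)) :
    (omPM j).map φ (KD.d _ y) = KD.d (j.app (op x)).hom (rg D φ y) :=
  KD.map_d (om_comm j φ) y

/-- the differentials are cartesian along every arrow with a pushout square -/
theorem omPM_isBC {x z : 𝒞} (φ : x ⟶ z) (h : IsPO (rg A φ) (j.app (op z)).hom (j.app (op x)).hom (rg D φ)) :
    IsBC (rg D φ) ((omPM j).map φ) :=
  KD.isBC h

theorem omPM_cart (h : ∀ {x z : 𝒞} (φ : x ⟶ z), IsPO (rg A φ) (j.app (op z)).hom (j.app (op x)).hom (rg D φ)) :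
    (omPM j).Cart :=
  fun _ _ φ => omPM_isBC j φ (h φ)

end PM

end

end Groth.Agent.ResProp.EF.K86
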