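import Groth.Agent.ResProp.EF.K86.Omega
import Groth.Prelude.Def_ComodSub

/-!
# The comodule structure on the Kähler differentials of a comodule algebra (S16912, 980: 2.3 / 3.1)

`k` a base ring, `O` a Hopf algebra over `k`, `c : K83.CoAlg k O B` a comodule algebra over `k`, `f : A →+* B` a ring
homomorphism with invariant image (`c.ρ (f a) = f a ⊗ 1`) containing the image of `k`, `(W, d)` the module of relative
differentials of `f` (`IsKD f d`, any model; `isKD_d` for `KD f`).  `omComod` : the induced coaction on `W`, a `(B, O)`-Hopf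
module (`omHopf`), `ρ (d x) = (d ⊗ 1) (ρ x)`, natural in `(A → B)` (`omComod_map`).
`isSubcomod_eqLocus` : the equalizer of two comodule maps is a subcomodule (`O` flat).
-/

set_option autoImplicit false
set_option linter.style.haveILetI false

open TensorProduct

namespace Groth.Agent.ResProp.EF.K86

universe u

noncomputable section

/-- `(W, d)` is the module of relative differentials of `f` -/
structure IsKD {A B : Type u} [CommRing A] [CommRing B] (f : A →+* B) {W : Type u} [AddCommGroup W] [Module B W]
    (d : B →+ W) : Prop where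
  leib : ∀ x y, d (x * y) = x • d y + y • d x
  zero : ∀ a, d (f a) = 0
  span : Submodule.span B (Set.range d) = ⊤
  lift : ∀ (Q : Type u) [AddCommGroup Q] [Module B Q] (δ : B →+ Q), (∀ x y, δ (x * y) = x • δ y + y • δ x) →
    (∀ a, δ (f a) = 0) → ∃ g : W →ₗ[B] Q, ∀ x, g (d x) = δ x

theorem isKD_d {A B : Type u} [CommRing A] [CommRing B] (f : A →+* B) : IsKD f (KD.d f) where
  leib := KD.d_mul f
  zero := KD.d_apply f
  span := KD.span f
  lift Q _ _ δ h1 h2 := by
    obtain ⟨g, hg, hg'⟩ := KD.exists_lift f (RingHom.id B) δ h1 h2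
    exact ⟨{ g with map_smul' := hg }, hg'⟩

/-- the universal property for an action given by a ring homomorphism -/
theorem IsKD.lift' {A B : Type u} [CommRing A] [CommRing B] {f : A →+* B} {W : Type u} [AddCommGroup W] [Module B W]
    {d : B →+ W} (hd : IsKD f d) {Q : Type u} [AddCommGroup Q] (R₀ : B →+* AddMonoid.End Q) (δ : B →+ Q)
    (h1 : ∀ x y, δ (x * y) = R₀ x (δ y) + R₀ y (δ x)) (h0 : ∀ a, δ (f a) = 0) :
    ∃ g : W →+ Q, (∀ (x : B) w, g (x • w) = R₀ x (g w)) ∧ ∀ x, g (d x) = δ x := by
  letI : Module B Q := Module.compHom Q R₀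
  obtain ⟨g, hg⟩ := hd.lift Q δ h1 h0
  exact ⟨g.toAddMonoidHom, fun x w => g.map_smul x w, hg⟩

section Beta

variable {k : Type u} [CommRing k] {A B : Type u} [CommRing A] [CommRing B] [Algebra k B] {f : A →+* B}
  {W : Type u} [AddCommGroup W] [Module B W] [Module k W] [IsScalarTower k B W] {d : B →+ W} (hd : IsKD f d)
  (hk : ∀ r : k, ∃ a, f a = algebraMap k B r)

include hd in
@[elab_as_elim]
theorem IsKD.induction {motive : W → Prop} (w : W) (zero : motive 0)
    (smul_d : ∀ (b x : B), motive (b • d x)) (add : ∀ x y, motive x → motive y → motive (x + y)) : motive w := by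
  have hw : w ∈ Submodule.span B (Set.range d) := by
    rw [hd.span]
    trivial
  induction hw using Submodule.span_induction with
  | mem x hx =>
    obtain ⟨y, rfl⟩ := hx
    simpa using smul_d 1 y
  | zero => exact zero
  | add x y _ _ hx hy => exact add x y hx hy
  | smul b x hx ih =>
    clear ih
    induction hx using Submodule.span_induction generalizing b with
    | mem x hx =>
      obtain ⟨y, rfl⟩ := hx
      exact smul_d b y
    | zero => simpa using zero
    | add x y _ _ hx hy =>
      rw [smul_add]
      exact add _ _ (hx b) (hy b)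
    | smul c x _ ih =>
      rw [smul_smul]
      exact ih (b * c)

include hd in
theorem d_smul (hk : ∀ r : k, ∃ a, f a = algebraMap k B r) (r : k) (b : B) : d (r • b) = r • d b := by
  obtain ⟨a, ha⟩ := hk r
  rw [Algebra.smul_def, hd.leib, ← ha, hd.zero, smul_zero, add_zero, ha, algebraMap_smul]

/-- `(a, b) ↦ a • d b` -/
def beta : B →ₗ[k] B →ₗ[k] W :=
  LinearMap.mk₂ k (fun a b => a • d b) (fun a a' b => add_smul _ _ _) (fun r a b => smul_assoc r a _)
    (fun a b b' => by rw [map_add, smul_add])
    (fun r a b => by rw [d_smul hd hk, smul_algebra_smul_comm])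

@[simp] theorem beta_apply (a b : B) : beta hd hk a b = a • d b := rfl

variable (S : Type u) [CommRing S] [Algebra k S]

/-- `(a ⊗ s, b ⊗ t) ↦ (a • d b) ⊗ s t` -/
def om : B ⊗[k] S →ₗ[k] B ⊗[k] S →ₗ[k] W ⊗[k] S :=
  TensorProduct.map₂ (beta hd hk) (LinearMap.mul k S)

@[simp] theorem om_tmul (a b : B) (s t : S) :
    om hd hk S (a ⊗ₜ s) (b ⊗ₜ t) = (a • d b) ⊗ₜ (s * t) := rfl

/-- the action of `B ⊗ S` on `M ⊗ S` -/
def actS (M : Type u) [AddCommGroup M] [Module k M] [Module B M] [IsScalarTower k B M] :
    B ⊗[k] S →ₗ[k] M ⊗[k] S →ₗ[k] M ⊗[k] S :=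
  TensorProduct.map₂ (Algebra.lsmul k k M).toLinearMap (LinearMap.mul k S)

@[simp] theorem actS_tmul (M : Type u) [AddCommGroup M] [Module k M] [Module B M] [IsScalarTower k B M] (a : B) (s t : S)
    (m : M) : actS (k := k) S M (a ⊗ₜ[k] s) (m ⊗ₜ t) = (a • m) ⊗ₜ (s * t) := rfl

theorem actS_mul (M : Type u) [AddCommGroup M] [Module k M] [Module B M] [IsScalarTower k B M] (u v : B ⊗[k] S)
    (w : M ⊗[k] S) : actS (k := k) S M (u * v) w = actS (k := k) S M u (actS (k := k) S M v w) := by
  induction u with
  | zero => simp
  | add x y hx hy => simp only [add_mul, map_add, LinearMap.add_apply, hx, hy]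
  | tmul a s =>
    induction v with
    | zero => simp
    | add x y hx hy => simp only [mul_add, map_add, LinearMap.add_apply, hx, hy]
    | tmul b t =>
      induction w with
      | zero => simp
      | add x y hx hy => simp only [map_add, hx, hy]
      | tmul m r => simp [mul_smul, mul_assoc]

theorem om_mul_left (u v w : B ⊗[k] S) :
    om hd hk S (u * v) w = actS (k := k) S W u (om hd hk S v w) := by
  induction u with
  | zero => simp
  | add x y hx hy => simp only [add_mul, map_add, LinearMap.add_apply, hx, hy]
  | tmul a s =>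
    induction v with
    | zero => simp
    | add x y hx hy => simp only [mul_add, map_add, LinearMap.add_apply, hx, hy]
    | tmul b t =>
      induction w with
      | zero => simp
      | add x y hx hy => simp only [map_add, hx, hy]
      | tmul m r => simp [mul_smul, mul_assoc]

/-- the Leibniz rule -/
theorem om_mul_right (u v : B ⊗[k] S) :
    om hd hk S 1 (u * v) = actS (k := k) S W u (om hd hk S 1 v) + actS (k := k) S W v (om hd hk S 1 u) := by
  induction u with
  | zero => simp
  | add x y hx hy =>
    simp only [add_mul, map_add, LinearMap.add_apply, hx, hy]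
    abel
  | tmul a s =>
    induction v with
    | zero => simp
    | add x y hx hy =>
      simp only [mul_add, map_add, LinearMap.add_apply, hx, hy]
      abel
    | tmul b t =>
      rw [Algebra.TensorProduct.one_def]
      simp [hd.leib, TensorProduct.add_tmul, mul_comm s t]

theorem om_eq_act (u v : B ⊗[k] S) : om hd hk S u v = actS (k := k) S W u (om hd hk S 1 v) := by
  rw [← om_mul_left, mul_one]

/-- naturality in `S` -/
theorem om_lTensor {S' : Type u} [CommRing S'] [Algebra k S'] (φ : S →ₐ[k] S') (u v : B ⊗[k] S) :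
    φ.toLinearMap.lTensor W (om hd hk S u v) =
      om hd hk S' (φ.toLinearMap.lTensor B u) (φ.toLinearMap.lTensor B v) := by
  induction u with
  | zero => simp
  | add x y hx hy => simp only [map_add, LinearMap.add_apply, hx, hy]
  | tmul a s =>
    induction v with
    | zero => simp
    | add x y hx hy => simp only [map_add, hx, hy]
    | tmul b t => simp

theorem om_assoc {S' : Type u} [CommRing S'] [Algebra k S'] (p q : B ⊗[k] S) (s t : S') :
    TensorProduct.assoc k W S S' (om hd hk S p q ⊗ₜ (s * t)) =
      om hd hk (S ⊗[k] S') (TensorProduct.assoc k B S S' (p ⊗ₜ s)) (TensorProduct.assoc k B S S' (q ⊗ₜ t)) := by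
  induction p with
  | zero => simp
  | add x y hx hy => simp only [map_add, LinearMap.add_apply, TensorProduct.add_tmul, hx, hy]
  | tmul a s =>
    induction q with
    | zero => simp
    | add x y hx hy => simp only [map_add, TensorProduct.add_tmul, hx, hy]
    | tmul b t => simp

end Beta

section Comod

variable {k : Type u} [CommRing k] {A B : Type u} [CommRing A] [CommRing B] [Algebra k B] {f : A →+* B}
  {W : Type u} [AddCommGroup W] [Module B W] [Module k W] [IsScalarTower k B W] {d : B →+ W} (hd : IsKD f d)
  (hk : ∀ r : k, ∃ a, f a = algebraMap k B r)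
  {O : Type u} [CommRing O] [HopfAlgebra k O] (c : K83.CoAlg k O B) (hc : ∀ a, c.ρ (f a) = f a ⊗ₜ 1)

include hc in
theorem exists_coact : ∃ g : W →ₗ[k] W ⊗[k] O, ∀ x y : B, g (x • d y) = om hd hk O (c.ρ x) (c.ρ y) := by
  let R₀ : B →+* AddMonoid.End (W ⊗[k] O) :=
    { toFun := fun x => (actS (k := k) O W (c.ρ x)).toAddMonoidHom
      map_one' := by
        ext w
        change actS (k := k) O W (c.ρ 1) w = w
        rw [map_one, Algebra.TensorProduct.one_def]
        induction w with
        | zero => simp
        | add x y hx hy => rw [map_add, hx, hy]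
        | tmul w' s => simp
      map_mul' := fun x y => by
        ext w
        change actS (k := k) O W (c.ρ (x * y)) w = _
        rw [map_mul]
        exact actS_mul O W _ _ w
      map_zero' := by
        ext w
        change actS (k := k) O W (c.ρ 0) w = 0
        simp
      map_add' := fun x y => by
        ext w
        change actS (k := k) O W (c.ρ (x + y)) w = actS (k := k) O W (c.ρ x) w + actS (k := k) O W (c.ρ y) w
        simp }
  have hR : ∀ x w, R₀ x w = actS (k := k) O W (c.ρ x) w := fun _ _ => rfl
  let δ : B →+ W ⊗[k] O := ((om hd hk O 1).comp c.ρ.toLinearMap).toAddMonoidHom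
  have hδ : ∀ x, δ x = om hd hk O 1 (c.ρ x) := fun _ => rfl
  obtain ⟨g, hg', hg⟩ := hd.lift' R₀ δ (fun x y => by
    rw [hδ, hδ, hδ, hR, hR, map_mul, om_mul_right]) (fun a => by
    rw [hδ, hc, Algebra.TensorProduct.one_def, om_tmul, hd.zero, smul_zero, TensorProduct.zero_tmul])
  refine ⟨{ toFun := fun w => g w, map_add' := g.map_add, map_smul' := fun r w => ?_ }, fun x y => ?_⟩
  · obtain ⟨a, ha⟩ := hk r
    have h1 : r • w = f a • w := by rw [ha, algebraMap_smul]
    rw [h1, hg', hR, hc, ha]
    generalize g w = z
    change actS (k := k) O W _ z = r • z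
    induction z with
    | zero => simp
    | add x y hx hy => rw [map_add, hx, hy, smul_add]
    | tmul w' s => rw [actS_tmul, one_mul, algebraMap_smul, TensorProduct.smul_tmul']
  · change g (x • d y) = _
    rw [hg', hg, hδ, hR]
    exact (om_eq_act hd hk O (c.ρ x) (c.ρ y)).symm

/-- the induced coaction -/
def coactKD : W →ₗ[k] W ⊗[k] O := (exists_coact hd hk c hc).choose

theorem coactKD_smul_d (x y : B) : coactKD hd hk c hc (x • d y) = om hd hk O (c.ρ x) (c.ρ y) :=
  (exists_coact hd hk c hc).choose_spec x y

theorem coactKD_d (y : B) : coactKD hd hk c hc (d y) = om hd hk O 1 (c.ρ y) := by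
  have := coactKD_smul_d hd hk c hc 1 y
  rwa [one_smul, map_one] at this

theorem coactKD_smul (x : B) (w : W) :
    coactKD hd hk c hc (x • w) = actS (k := k) O W (c.ρ x) (coactKD hd hk c hc w) := by
  induction w using hd.induction with
  | zero => simp
  | smul_d b y => rw [smul_smul, coactKD_smul_d, coactKD_smul_d, map_mul, om_mul_left]
  | add x y hx hy => rw [smul_add, map_add, map_add, map_add, hx, hy]

theorem coactKD_assoc_aux (u v : B ⊗[k] O) :
    TensorProduct.assoc k W O O ((coactKD hd hk c hc).rTensor O (om hd hk O u v)) =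
      om hd hk (O ⊗[k] O) (TensorProduct.assoc k B O O (c.ρ.toLinearMap.rTensor O u))
        (TensorProduct.assoc k B O O (c.ρ.toLinearMap.rTensor O v)) := by
  induction u with
  | zero => simp
  | add x y hx hy => simp only [map_add, LinearMap.add_apply, hx, hy]
  | tmul a s =>
    induction v with
    | zero => simp
    | add x y hx hy => simp only [map_add, hx, hy]
    | tmul b t =>
      rw [om_tmul, LinearMap.rTensor_tmul, coactKD_smul_d, om_assoc]
      rfl

/-- **the coaction on the differentials** -/
@[reducible] def omComod : HopfRep.Comod k O W where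
  coact := coactKD hd hk c hc
  coassoc := by
    ext w
    simp only [LinearMap.coe_comp, Function.comp_apply, LinearEquiv.coe_coe]
    induction w using hd.induction with
    | zero => simp
    | add x y hx hy => rw [map_add, map_add, map_add, map_add, hx, hy]
    | smul_d x y =>
      have h := om_lTensor hd hk O (Bialgebra.comulAlgHom k O) (c.ρ x) (c.ρ y)
      rw [coactKD_smul_d, coactKD_assoc_aux, c.coassoc, c.coassoc]
      exact h.symm
  counit_comp := by
    ext w
    simp only [LinearMap.coe_comp, Function.comp_apply]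
    induction w using hd.induction with
    | zero => simp
    | add x y hx hy => rw [map_add, map_add, map_add, hx, hy]
    | smul_d x y =>
      have h := om_lTensor hd hk O (Bialgebra.counitAlgHom k O) (c.ρ x) (c.ρ y)
      rw [coactKD_smul_d]
      refine h.trans ?_
      have e1 : (Bialgebra.counitAlgHom k O).toLinearMap.lTensor B (c.ρ x) = x ⊗ₜ 1 := c.counit x
      have e2 : (Bialgebra.counitAlgHom k O).toLinearMap.lTensor B (c.ρ y) = y ⊗ₜ 1 := c.counit y
      rw [e1, e2, om_tmul, mul_one]
      rfl

/-- it is a Hopf module -/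
theorem omHopf : K83.IsHopfMod c W (omComod hd hk c hc) where
  smul x w := coactKD_smul hd hk c hc x w

theorem omComod_coact_d (y : B) : (omComod hd hk c hc).coact (d y) = om hd hk O 1 (c.ρ y) :=
  coactKD_d hd hk c hc y

end Comod

section Map

variable {k : Type u} [CommRing k] {A B : Type u} [CommRing A] [CommRing B] [Algebra k B] {f : A →+* B}
  {W : Type u} [AddCommGroup W] [Module B W] [Module k W] [IsScalarTower k B W] {d : B →+ W} (hd : IsKD f d)
  (hk : ∀ r : k, ∃ a, f a = algebraMap k B r)
  {O : Type u} [CommRing O] [HopfAlgebra k O] (c : K83.CoAlg k O B) (hc : ∀ a, c.ρ (f a) = f a ⊗ₜ 1)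
  {A' B' : Type u} [CommRing A'] [CommRing B'] [Algebra k B'] {f' : A' →+* B'}
  {W' : Type u} [AddCommGroup W'] [Module B' W'] [Module k W'] [IsScalarTower k B' W'] {d' : B' →+ W'}
  (hd' : IsKD f' d') (hk' : ∀ r : k, ∃ a, f' a = algebraMap k B' r)
  (c' : K83.CoAlg k O B') (hc' : ∀ a, c'.ρ (f' a) = f' a ⊗ₜ 1)

theorem om_map (b : B →ₐ[k] B') (g : W →ₗ[k] W') (hg : ∀ (x y : B), g (x • d y) = b x • d' (b y)) (S : Type u)
    [CommRing S] [Algebra k S] (u v : B ⊗[k] S) :
    g.rTensor S (om hd hk S u v) = om hd' hk' S (b.toLinearMap.rTensor S u) (b.toLinearMap.rTensor S v) := by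
  induction u with
  | zero => simp
  | add x y hx hy => simp only [map_add, LinearMap.add_apply, hx, hy]
  | tmul a s =>
    induction v with
    | zero => simp
    | add x y hx hy => simp only [map_add, hx, hy]
    | tmul b t => simp [hg]

/-- naturality of the coaction on the differentials -/
theorem omComod_map (b : B →ₐ[k] B') (g : W →ₗ[k] W') (hg : ∀ (x y : B), g (x • d y) = b x • d' (b y))
    (hb : ∀ x, c'.ρ (b x) = b.toLinearMap.rTensor O (c.ρ x)) (w : W) :
    (omComod hd' hk' c' hc').coact (g w) = g.rTensor O ((omComod hd hk c hc).coact w) := by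
  change coactKD hd' hk' c' hc' (g w) = g.rTensor O (coactKD hd hk c hc w)
  induction w using hd.induction with
  | zero => simp
  | add x y hx hy => rw [map_add, map_add, map_add, map_add, hx, hy]
  | smul_d x y => rw [hg, coactKD_smul_d, coactKD_smul_d, om_map hd hk hd' hk' b g hg, hb, hb]

end Map

section Sub

variable {k : Type u} [CommRing k] {O : Type u} [AddCommGroup O] [Module k O] [Coalgebra k O] [Module.Flat k O]
  {M N : Type u} [AddCommGroup M] [Module k M] [HopfRep.Comod k O M] [AddCommGroup N] [Module k N]
  [HopfRep.Comod k O N]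

/-- the equalizer of two comodule maps is a subcomodule -/
theorem isSubcomod_eqLocus (p q : M →ₗ[k] N) (hp : Hoch.IsComodHom O p) (hq : Hoch.IsComodHom O q) :
    HopfRep.IsSubcomod (k := k) (A := O) (LinearMap.eqLocus p q) := by
  intro w hw
  have h1 : (p - q).rTensor O (HopfRep.Comod.coact (k := k) (A := O) w) = 0 := by
    rw [LinearMap.rTensor_sub, LinearMap.sub_apply, sub_eq_zero]
    have e1 := LinearMap.congr_fun hp w
    have e2 := LinearMap.congr_fun hq w
    simp only [LinearMap.coe_comp, Function.comp_apply] at e1 e2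
    rw [← e1, ← e2]
    exact congrArg _ hw
  have h2 : Function.Exact ((LinearMap.eqLocus p q).subtype) (p - q) := by
    intro x
    constructor
    · intro hx
      exact ⟨⟨x, sub_eq_zero.1 hx⟩, rfl⟩
    · rintro ⟨y, rfl⟩
      exact sub_eq_zero.2 y.2
  exact (Module.Flat.rTensor_exact O h2 _).1 h1

end Sub

end

end Groth.Agent.ResProp.EF.K86
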