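import Groth.Agent.ResProp.EF.K86.VOmega
import Groth.Agent.ResProp.EF.K980.Nodes

/-!
# The action of a point of the group on differentials (S16912, producer, W3)

`point_formula` : `U = (u, h) ∘ ρ : B → B''` (`u : B → B''`, `h : O → B''` with `d'' (h o) = 0`), `g`, `gU` the maps of
differentials of `u`, `U`; then `gU w = ∑ h (w₁) • g (w₀)` where `coact w = ∑ w₀ ⊗ w₁`.
`om_hAct` : the case `U = hAct c B n h : D⟨n⟩ → B ⊗ D⟨n⟩` of `K980/Nodes.lean`.
-/

set_option autoImplicit false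
set_option linter.style.haveILetI false
set_option linter.dupNamespace false

open TensorProduct CategoryTheory Opposite

namespace Groth.Agent.ResProp.EF.K86

open K784.BC K784.PM EF56 Grp Arch K477

universe u v w

noncomputable section

section Point

variable {k : Type u} [CommRing k] {A B : Type u} [CommRing A] [CommRing B] [Algebra k B] {f : A →+* B}
  {W : Type u} [AddCommGroup W] [Module B W] [Module k W] [IsScalarTower k B W] {d : B →+ W} (hd : IsKD f d)
  (hk : ∀ r : k, ∃ a, f a = algebraMap k B r)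
  {O : Type u} [CommRing O] [HopfAlgebra k O] (c : K83.CoAlg k O B) (hc : ∀ a, c.ρ (f a) = f a ⊗ₜ 1)
  {B'' : Type v} [CommRing B''] [Algebra k B''] {W'' : Type w} [AddCommGroup W''] [Module B'' W''] {d'' : B'' →+ W''}

/-- the map `W ⊗ O → W''`, `w ⊗ o ↦ h o • g w` -/
theorem exists_ptMap (h : O →ₐ[k] B'') (g : W →+ W'') (hg : ∀ (r : k) w, g (r • w) = algebraMap k B'' r • g w) :
    ∃ T : W ⊗[k] O →+ W'', ∀ w o, T (w ⊗ₜ o) = h o • g w := by
  letI : Module k W'' := Module.compHom W'' (algebraMap k B'')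
  haveI : IsScalarTower k B'' W'' := ⟨fun r s m => by
    change (r • s) • m = algebraMap k B'' r • s • m
    rw [Algebra.smul_def, mul_smul]⟩
  let g' : W →ₗ[k] W'' := { g with map_smul' := hg }
  let β : W →ₗ[k] O →ₗ[k] W'' := LinearMap.mk₂ k (fun w o => h o • g w)
    (fun w w' o => by rw [map_add, smul_add])
    (fun r w o => by
      rw [hg]
      change h o • algebraMap k B'' r • g w = algebraMap k B'' r • h o • g w
      rw [smul_smul, smul_smul, mul_comm])
    (fun w o o' => by rw [map_add, add_smul])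
    (fun r w o => by rw [map_smul, smul_assoc])
  exact ⟨(TensorProduct.lift β).toAddMonoidHom, fun w o => rfl⟩

/-- **the formula for the action of a point on differentials** -/
theorem point_formula (leib : ∀ x y, d'' (x * y) = x • d'' y + y • d'' x) (u : B →ₐ[k] B'') (h : O →ₐ[k] B'')
    (hh : ∀ o, d'' (h o) = 0) (U : B → B'')
    (hU : ∀ b, U b = Algebra.TensorProduct.lift u h (fun _ _ => mul_comm _ _) (c.ρ b)) (g gU : W →+ W'')
    (hg : ∀ x y : B, g (x • d y) = u x • d'' (u y)) (hgU : ∀ x y : B, gU (x • d y) = U x • d'' (U y))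
    (T : W ⊗[k] O →+ W'') (hT : ∀ w o, T (w ⊗ₜ o) = h o • g w) (w : W) :
    gU w = T ((omComod hd hk c hc).coact w) := by
  have key : ∀ p q : B ⊗[k] O, T (om hd hk O p q) = Algebra.TensorProduct.lift u h (fun _ _ => mul_comm _ _) p •
      d'' (Algebra.TensorProduct.lift u h (fun _ _ => mul_comm _ _) q) := by
    intro p q
    induction p with
    | zero => simp
    | add x y hx hy => rw [map_add, LinearMap.add_apply, map_add, map_add, add_smul, hx, hy]
    | tmul a s =>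
      induction q with
      | zero => simp
      | add x y hx hy => rw [map_add, map_add, map_add, map_add, smul_add, hx, hy]
      | tmul b t =>
        rw [om_tmul, hT, hg, Algebra.TensorProduct.lift_tmul, Algebra.TensorProduct.lift_tmul, leib, hh, smul_zero,
          zero_add, map_mul, smul_smul, smul_smul]
        congr 1
        ring
  induction w using hd.induction with
  | zero => simp
  | add x y hx hy => rw [map_add, map_add, map_add, hx, hy]
  | smul_d x y =>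
    rw [hgU, hU, hU]
    refine Eq.trans ?_ (congrArg T (coactKD_smul_d hd hk c hc x y).symm)
    exact (key _ _).symm

end Point

section Nodes

variable {k : Type u} [CommRing k] {A : NFᵒᵖ ⥤ CommRingCat.{u}} [GRF k A] {x : PrimeSpectrum (A.obj (op ⟨0⟩))}
  (c : CoverDatum k A x) (B : Type u) [CommRing B] [Algebra k B] (n : ℕ)

/-- `hAct` is an algebra map -/
def hActAlg (h : c.H.O →ₐ[k] B) : c.Y.D.obj (op ⟨n⟩) →ₐ[k] B ⊗[k] c.Y.D.obj (op ⟨n⟩) :=
  (Algebra.TensorProduct.lift Algebra.TensorProduct.includeRight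
    ((Algebra.TensorProduct.includeLeft (R := k) (S := k) (A := B) (B := c.Y.D.obj (op ⟨n⟩))).comp h)
    (fun _ _ => mul_comm _ _)).comp (c.ρ ⟨n⟩).ρ

theorem hActAlg_def (h : c.H.O →ₐ[k] B) (z : c.Y.D.obj (op ⟨n⟩)) : hActAlg c B n h z =
    Algebra.TensorProduct.lift (Algebra.TensorProduct.includeRight (R := k) (A := B) (B := c.Y.D.obj (op ⟨n⟩)))
      ((Algebra.TensorProduct.includeLeft (R := k) (S := k) (A := B) (B := c.Y.D.obj (op ⟨n⟩))).comp h)
      (fun _ _ => Commute.all _ _) ((c.ρ ⟨n⟩).ρ z) := rfl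

theorem hActAlg_apply (h : c.H.O →ₐ[k] B) (z : c.Y.D.obj (op ⟨n⟩)) : hActAlg c B n h z = K980.hAct c B n h z := by
  rw [hActAlg_def]
  change _ = TensorProduct.comm k _ B (h.toLinearMap.lTensor _ ((c.ρ ⟨n⟩).ρ z))
  generalize (c.ρ ⟨n⟩).ρ z = w
  induction w with
  | zero => simp
  | add a b ha hb => rw [map_add, map_add, map_add, ha, hb]
  | tmul a s => simp

theorem lvD_comm : (Algebra.TensorProduct.includeRight (R := k) (A := B) (B := c.Y.D.obj (op ⟨n⟩))).toRingHom.comp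
    (c.Y.j.app (op ⟨n⟩)).hom = (K980.lvD c B n).comp
      (Algebra.TensorProduct.includeRight (R := k) (A := B) (B := A.obj (op ⟨n⟩))).toRingHom := by
  ext r
  change (1 : B) ⊗ₜ[k] (c.Y.j.app (op ⟨n⟩)).hom r = Algebra.TensorProduct.map (AlgHom.id k B)
    (IsScalarTower.toAlgHom k (A.obj (op ⟨n⟩)) (c.Y.D.obj (op ⟨n⟩))) (1 ⊗ₜ r)
  rw [Algebra.TensorProduct.map_tmul]
  rfl

theorem lvD_comm_h (h : c.H.O →ₐ[k] B) : (hActAlg c B n h).toRingHom.comp (c.Y.j.app (op ⟨n⟩)).hom =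
    (K980.lvD c B n).comp (Algebra.TensorProduct.includeRight (R := k) (A := B) (B := A.obj (op ⟨n⟩))).toRingHom := by
  rw [← lvD_comm]
  ext r
  change hActAlg c B n h ((c.Y.j.app (op ⟨n⟩)).hom r) = _
  rw [hActAlg_def, show (c.ρ ⟨n⟩).ρ ((c.Y.j.app (op ⟨n⟩)).hom r) = (c.Y.j.app (op ⟨n⟩)).hom r ⊗ₜ 1 from c.ρ_lin ⟨n⟩ r]
  simp

/-- **the action of `h ∈ H(B)` on the differentials of `D⟨n⟩ / A⟨n⟩`** -/
theorem om_hAct (h : c.H.O →ₐ[k] B) (T : letI := omk c ⟨n⟩; (omPM c.Y.j).obj ⟨n⟩ ⊗[k] c.H.O →+ KD (K980.lvD c B n))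
    (hT : letI := omk c ⟨n⟩; ∀ (w : (omPM c.Y.j).obj ⟨n⟩) o, T (w ⊗ₜ[k] o) = (h o ⊗ₜ[k] (1 : c.Y.D.obj (op ⟨n⟩))) •
      (KD.map (lvD_comm c B n) w : KD (K980.lvD c B n)))
    (w : (omPM c.Y.j).obj ⟨n⟩) : letI := omk c ⟨n⟩;
    (KD.map (lvD_comm_h c B n h) w : KD (K980.lvD c B n)) = T ((omC c ⟨n⟩).coact w) := by
  letI := omk c ⟨n⟩
  haveI := omk_tower c ⟨n⟩
  have h2 : ∀ s : B, ∃ a, K980.lvD c B n a = s ⊗ₜ[k] (1 : c.Y.D.obj (op ⟨n⟩)) := fun s => ⟨s ⊗ₜ 1, by
    change Algebra.TensorProduct.map (AlgHom.id k B)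
      (IsScalarTower.toAlgHom k (A.obj (op ⟨n⟩)) (c.Y.D.obj (op ⟨n⟩))) (s ⊗ₜ 1) = _
    rw [Algebra.TensorProduct.map_tmul, map_one]
    rfl⟩
  exact point_formula (isKD_om c.Y.j ⟨n⟩) (omk_hk c ⟨n⟩) (c.ρ ⟨n⟩) (c.ρ_lin ⟨n⟩) (KD.d_mul (K980.lvD c B n))
    Algebra.TensorProduct.includeRight
    ((Algebra.TensorProduct.includeLeft (R := k) (S := k) (A := B) (B := c.Y.D.obj (op ⟨n⟩))).comp h)
    (fun o => by
      obtain ⟨a, ha⟩ := h2 (h o)
      change KD.d _ (h o ⊗ₜ[k] (1 : c.Y.D.obj (op ⟨n⟩))) = 0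
      rw [← ha, KD.d_apply])
    (hActAlg c B n h) (fun _ => rfl) (KD.map (lvD_comm c B n)) (KD.map (lvD_comm_h c B n h))
    (fun x y => (KD.map_smul _ x _).trans (congrArg _ (KD.map_d _ y)))
    (fun x y => (KD.map_smul _ x _).trans (congrArg _ (KD.map_d _ y))) T hT w

end Nodes

end

end Groth.Agent.ResProp.EF.K86
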